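import Cfsg.Agent.Lib.Blocks.FreeAbelianCounts.Inertial
import Cfsg.Agent.Lib.Blocks.CyclicData

/-!
# The number of Brauer characters for a free abelian inertial action

The coefficients of the columns form a coherent family; the resulting norm equation bounds the
rank by the order of the inertial quotient and leaves only cyclic defect groups when the order is
at most three and the bound is strict.
-/

set_option autoImplicit false
set_option linter.unusedSectionVars false
set_option maxHeartbeats 800000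

namespace CfsgLib.Blocks.FreeAbelianCounts

open Cfsg CfsgLib.Blocks CfsgLib.BrauerPairs CfsgLib.BrouePuig CfsgLib.Blocks.CyclicProfile
open scoped Classical ComplexConjugate

universe u

/-- The arithmetic of the norm equation. -/
theorem norm_arith {ι : Type*} (X : Finset ι) (g : ι → ℤ) (hg : ∀ x ∈ X, g x ≠ 0) {e m : ℕ}
    (hm : 1 ≤ m) {δ d : ℤ} (hδ : δ = 1 ∨ δ = -1) (hm1 : m = 1 → d ≠ δ) (hX : 1 ≤ X.card)
    (heq : (∑ x ∈ X, g x * g x) + (m : ℤ) * d ^ 2 - 2 * δ * d = e) :
    X.card ≤ e ∧ (e ≤ 3 → X.card = e ∨ m * e + 1 = 7 ∨ m * e + 1 = 10 ∨ m * e + 1 = 13) := by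
  set S : ℤ := ∑ x ∈ X, g x * g x with hS
  have hone : ∀ x ∈ X, (1 : ℤ) ≤ g x * g x := fun x hx =>
    Int.add_one_le_iff.2 (mul_self_pos.2 (hg x hx))
  have hSX : (X.card : ℤ) ≤ S :=
    le_trans (le_of_eq (by simp)) (Finset.sum_le_sum hone)
  set x : ℤ := δ * d with hx
  have hxx : x ^ 2 = d ^ 2 := by rcases hδ with rfl | rfl <;> rw [hx] <;> ring
  have heq' : S + (m : ℤ) * x ^ 2 - 2 * x = e := by rw [hxx, hx]; linarith
  have hm' : (1 : ℤ) ≤ m := by exact_mod_cast hm
  have hx1 : m = 1 → x ≠ 1 := fun h1 h => hm1 h1 (by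
    rcases hδ with rfl | rfl <;> rw [hx] at h <;> linarith)
  have ht : 0 ≤ (m : ℤ) * x ^ 2 - 2 * x := by
    rcases le_or_gt x 0 with h | h
    · nlinarith [sq_nonneg x]
    · rcases Nat.lt_or_ge m 2 with h' | h'
      · have hm1' : m = 1 := by omega
        have h2 : x ≠ 1 := hx1 hm1'
        have h3 : 2 ≤ x := by omega
        subst hm1'
        push_cast
        nlinarith
      · have h'' : (2 : ℤ) ≤ m := by exact_mod_cast h'
        nlinarith
  refine ⟨by exact_mod_cast (show (X.card : ℤ) ≤ e by linarith), fun he3 => ?_⟩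
  have he3' : (e : ℤ) ≤ 3 := by exact_mod_cast he3
  have hX' : (1 : ℤ) ≤ X.card := by exact_mod_cast hX
  -- all the squares are one
  have hall : ∀ y ∈ X, g y * g y = 1 := by
    intro y hy
    have h1 : g y * g y ≤ S := Finset.single_le_sum (f := fun z => g z * g z)
      (fun z hz => by show (0 : ℤ) ≤ g z * g z; linarith [hone z hz]) hy
    have h3 : g y * g y ≤ 3 := by linarith
    have h4 : g y ≤ 1 := by nlinarith
    have h5 : -1 ≤ g y := by nlinarith
    have h6 := hg y hy
    interval_cases (g y) <;> simp_all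
  have hSeq : S = X.card := by
    rw [hS, Finset.sum_congr rfl hall]; simp
  by_contra hcon
  push Not at hcon
  obtain ⟨hne, h7, h10, h13⟩ := hcon
  have hlt : (X.card : ℤ) < e := lt_of_le_of_ne (by linarith)
    (fun h => hne (by exact_mod_cast h))
  have ht2 : (m : ℤ) * x ^ 2 - 2 * x ≤ 2 := by linarith
  have hxb : x ≤ 3 := by nlinarith
  have hxa : -1 ≤ x := by nlinarith
  have he2 : 2 ≤ e := by omega
  interval_cases x <;> interval_cases e <;> omega

variable {p : ℕ} [Fact p.Prime] {M : Ideal AlgInt} {hM : IsPModular p M} {G : Type u} [Group G]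
  [Fintype G] {B : Set (IrrCharacter G)} {P : Subgroup G}
  {c : Set (IrrCharacter (Subgroup.centralizer (P : Set G)))}

theorem counts (hM : IsPModular p M) (hmax : IsMaximalBrauerPair p M B P c)
    (hab : ∀ x ∈ P, ∀ y ∈ P, x * y = y * x) (hfree : FreeAct P c) (hP1 : P ≠ ⊥) :
    blockRank p B ≤ (Subgroup.centralizer (P : Set G)).relIndex (pairStab P c) ∧
      ((Subgroup.centralizer (P : Set G)).relIndex (pairStab P c) ≤ 3 →
        blockRank p B = (Subgroup.centralizer (P : Set G)).relIndex (pairStab P c)) := by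
  rw [← card_autP]
  have hc : ∀ a b : P, a * b = b * a := fun a b => Subtype.ext (hab a a.2 b b.2)
  set A := autP P c with hA
  have hfreeA : ∀ α ∈ A, ∀ w : P, w ≠ 1 → α w = w → α = 1 := autP_free hfree
  obtain ⟨m, hm, hk⟩ := exists_card_eq hab hfree hmax hM
  obtain ⟨M0, ε, hM0, hε, hεA, hgen⟩ := exists_sign (hM := hM) hmax hab hfree hP1
  choose H hH hHu using hgen
  choose n hn using fun θ χ => coef_int (hM := hM) hmax hab ε hM0 θ χ (hH χ) (hHu χ)
  have he0 : 0 < Nat.card A := Nat.card_pos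
  have hirr : Fintype.card (IrrCharacter P) = Nat.card P := by
    have h := sum_lin hc (1 : P)
    rw [if_pos rfl, Finset.sum_congr rfl fun θ _ => lin_one hc θ, Finset.sum_const, nsmul_eq_mul,
      mul_one, Finset.card_univ, Nat.cast_inj] at h
    exact h
  let κ := {θ : IrrCharacter P // θ ≠ one P}
  have hcκ : Fintype.card κ = m * Nat.card A := by
    rw [Fintype.card_subtype_compl, Fintype.card_subtype_eq, hirr, hm, Nat.add_sub_cancel]
  have hq2 : 2 ≤ Nat.card P := by
    haveI : Nontrivial P := (Subgroup.nontrivial_iff_ne_bot P).2 hP1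
    exact Finite.one_lt_card
  have hm0 : 1 ≤ m := by
    rcases Nat.eq_zero_or_pos m with h | h
    · rw [h, zero_mul] at hm; omega
    · exact h
  obtain ⟨k₀⟩ : Nonempty κ := Fintype.card_pos_iff.1 (by rw [hcκ]; exact Nat.mul_pos hm0 he0)
  let R : κ → κ → Prop := fun k l => orbitSum A k.1 = orbitSum A l.1
  have hR : Equivalence R := ⟨fun _ => rfl, fun h => Eq.symm h, fun h h' => Eq.trans h h'⟩
  let cc : κ → IrrCharacter G → ℤ := fun k χ => n k.1 χ
  have hip : ∀ k l : κ, ∑ χ, cc k χ * cc l χ = (Nat.card A : ℤ) + if R k l then 1 else 0 := by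
    intro k l
    have h := sum_coef_mul (hM := hM) hmax hab hfree ε hε hεA k.2 l.2
    simp only [hn, map_intCast] at h
    apply Int.cast_injective (α := ℂ)
    push_cast
    exact h
  have hdeg : ∀ k : κ, ∑ χ, (cc k χ : ℂ) * (χ : G → ℂ) 1 = 0 := fun k => by
    have h := sum_coef_deg (hM := hM) hmax hab hfree ε k.1
    simp only [hn] at h
    exact h
  obtain ⟨ζ, δ, g, hδ, hζR, hζ, hgd, hhit⟩ :=
    CyclicDecomp.coherent k₀ hR cc (Nat.card A) (Int.natCast_nonneg _)
      (fun k l => by convert hip k l) hdeg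
  have hout : ∀ χ ∉ B, ∀ k, cc k χ = 0 := fun χ hχ k => by
    have h := coef_eq_zero (hM := hM) hmax hab hfree ε k.1 hχ
    rw [hn] at h
    exact_mod_cast h
  have hin : ∀ χ ∈ B, ∃ k, cc k χ ≠ 0 := fun χ hχ => by
    obtain ⟨θ, hθ, hne⟩ := exists_coef_ne_zero (hM := hM) hmax hab hfree hP1 ε hε hχ
    exact ⟨⟨θ, hθ⟩, fun h => hne (by rw [hn, show n θ χ = 0 from h, Int.cast_zero])⟩
  set Yf : Finset (IrrCharacter G) := Finset.univ.image ζ with hYf
  have hYB : Yf ⊆ B.toFinset := fun χ hχ => by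
    obtain ⟨k, -, rfl⟩ := Finset.mem_image.1 hχ
    obtain ⟨l, hl⟩ := hhit k
    exact Set.mem_toFinset.2 (by_contra fun hn' => hl (hout _ hn' l))
  set Xf : Finset (IrrCharacter G) := B.toFinset \ Yf with hXf
  have hgc : ∀ χ, χ ∉ Yf → ∀ k, cc k χ = g χ := fun χ hχ k => by
    rw [hζ, if_neg fun h => hχ (Finset.mem_image.2 ⟨k, Finset.mem_univ _, h.symm⟩), mul_zero,
      sub_zero]
  have hgX : ∀ χ ∈ Xf, g χ ≠ 0 := fun χ hχ h0 => by
    obtain ⟨hB', hY'⟩ := Finset.mem_sdiff.1 hχ
    obtain ⟨k, hk'⟩ := hin χ (Set.mem_toFinset.1 hB')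
    exact hk' (by rw [hgc χ hY', h0])
  -- the fibres of `ζ`
  have hfib : ∀ k : κ, (Finset.univ.filter fun l => ζ l = ζ k).card = Nat.card A := by
    intro k
    rw [← card_fiber hc hfreeA k.2, ← Finset.card_map (Function.Embedding.subtype _)]
    congr 1
    ext η
    simp only [Finset.mem_map, Finset.mem_filter, Finset.mem_univ, true_and,
      Function.Embedding.coe_subtype]
    constructor
    · rintro ⟨l, hl, rfl⟩
      exact ⟨l.2, (hζR l k).1 hl⟩
    · rintro ⟨h1, h2⟩
      exact ⟨⟨η, h1⟩, (hζR _ k).2 h2, rfl⟩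
  have hYcard : Yf.card = m := by
    refine Nat.eq_of_mul_eq_mul_right he0 ?_
    rw [← hcκ, ← Finset.card_univ (α := κ), Finset.card_eq_sum_card_fiberwise (f := ζ) (t := Yf)
      (fun k _ => by simp [hYf]), Finset.sum_const_nat (m := Nat.card A) fun η hη => ?_]
    rw [hYf, Finset.mem_image] at hη
    obtain ⟨k, -, rfl⟩ := hη
    exact hfib k
  have hXcard : Xf.card = blockRank p B := by
    rw [hXf, Finset.card_sdiff_of_subset hYB, Set.toFinset_card, ← Nat.card_eq_fintype_card, hYcard,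
      hk]
    omega
  set d : ℤ := g (ζ k₀) with hd
  have hgY : ∀ η ∈ Yf, g η = d := fun η hη => by
    rw [hYf, Finset.mem_image] at hη
    obtain ⟨k, -, rfl⟩ := hη
    exact hgd k
  have hnorm : (∑ χ ∈ Xf, g χ * g χ) + (m : ℤ) * d ^ 2 - 2 * δ * d = (Nat.card A : ℤ) := by
    have h1 := hip k₀ k₀
    rw [if_pos (hR.refl k₀)] at h1
    rw [← Finset.sum_subset (Finset.subset_univ B.toFinset) fun χ _ hχ => by
      rw [hout χ (fun h => hχ (Set.mem_toFinset.2 h)), mul_zero],
      ← Finset.sum_sdiff hYB, ← hXf] at h1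
    rw [Finset.sum_congr rfl (g := fun χ => g χ * g χ) fun χ hχ => by
        rw [hgc χ (Finset.mem_sdiff.1 hχ).2 k₀],
      Finset.sum_congr rfl (s₁ := Yf) (g := fun χ => d * d + if χ = ζ k₀ then 1 - 2 * δ * d else 0)
        fun χ hχ => by
          rw [hζ, hgY χ hχ]
          split_ifs <;> rcases hδ with rfl | rfl <;> ring,
      Finset.sum_add_distrib, Finset.sum_const, nsmul_eq_mul, hYcard, Finset.sum_ite_eq',
      if_pos (by simp [hYf])] at h1
    linarith
  have hm1 : m = 1 → d ≠ δ := by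
    intro h1 hdδ
    obtain ⟨l, hl⟩ := hhit k₀
    refine hl ?_
    have hall : ζ l = ζ k₀ := Finset.card_le_one.1 (by omega : Yf.card ≤ 1) _ (by simp [hYf]) _
      (by simp [hYf])
    rw [hζ, if_pos hall.symm, ← hd, hdδ]
    ring
  obtain ⟨hle, h3⟩ := norm_arith Xf g hgX hm0 hδ hm1
    (by rw [hXcard]; exact one_le_blockRank' hM hmax.1.2.1) hnorm
  rw [hXcard] at hle h3
  refine ⟨hle, fun he => (h3 he).elim id fun hq => ?_⟩
  rw [← hm] at hq
  obtain ⟨a, ha⟩ := IsPGroup.iff_card.1 hmax.1.1.1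
  have hp : p.Prime := Fact.out
  have hprime : (Nat.card P).Prime := by
    rcases hq with h | h | h
    · rw [h]; norm_num
    · exfalso
      rw [ha] at h
      have h2 : 2 ∣ p ^ a := by rw [h]; norm_num
      have h5 : 5 ∣ p ^ a := by rw [h]; norm_num
      have e2 := (Nat.prime_dvd_prime_iff_eq Nat.prime_two hp).1 (Nat.prime_two.dvd_of_dvd_pow h2)
      have e5 := (Nat.prime_dvd_prime_iff_eq (by norm_num) hp).1
        ((show Nat.Prime 5 by norm_num).dvd_of_dvd_pow h5)
      omega
    · rw [h]; norm_num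
  haveI : Fact (Nat.card P).Prime := ⟨hprime⟩
  have hcyc : IsCyclic P := isCyclic_of_prime_card (p := Nat.card P) rfl
  rw [hA, card_autP]
  exact (CyclicDecomp.main hM hmax hcyc hP1 ha).1

end CfsgLib.Blocks.FreeAbelianCounts
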