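import Cfsg.Agent.Lib.Blocks.FreeAbelianCounts.Count
import Cfsg.Agent.Lib.BrouePuig.CyclicInertial

/-!
# Inertial quotients of homocyclic 2-groups of rank two

A group of automorphisms of odd order of an abelian 2-group with three involutions acts freely and
has order one or three.
-/

set_option autoImplicit false
set_option linter.unusedSectionVars false

namespace CfsgLib.Blocks.FreeAbelianCounts

open scoped Classical

universe u

variable {D : Type u} [Group D] [Fintype D]

/-- An automorphism of odd order fixing the involutions of an abelian 2-group is trivial. -/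
theorem eq_one_of_fix_involutions (hc : ∀ a b : D, a * b = b * a) (hD : IsPGroup 2 D)
    {α : MulAut D} {n : ℕ} (hn : Odd n) (hαn : α ^ n = 1)
    (hfix : ∀ z : D, z * z = 1 → α z = z) : α = 1 := by
  have key : ∀ k : ℕ, ∀ x : D, x ^ 2 ^ k = 1 → α x = x := by
    intro k
    induction k with
    | zero =>
      intro x hx
      rw [pow_zero, pow_one] at hx
      rw [hx, map_one]
    | succ k ih =>
      intro x hx
      have h2 : α (x * x) = x * x := ih _ (by rw [← sq, ← pow_mul, ← pow_succ', hx])
      set z := α x * x⁻¹ with hz
      have hzz : z * z = 1 := by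
        have h1 : Commute (α x) x⁻¹ := hc _ _
        calc z * z = (α x * α x) * (x⁻¹ * x⁻¹) := by rw [hz]; exact h1.symm.mul_mul_mul_comm _ _
          _ = (x * x) * (x⁻¹ * x⁻¹) := by rw [← map_mul, h2]
          _ = 1 := by group
      have hzfix := hfix z hzz
      have hx' : α x = x * z := by rw [hz, hc (α x) x⁻¹, mul_inv_cancel_left]
      have hit : ∀ j : ℕ, (α ^ j) x = x * z ^ j := by
        intro j
        induction j with
        | zero => simp
        | succ j ihj =>
          rw [pow_succ', MulAut.mul_apply, ihj, map_mul, map_pow, hzfix, hx', mul_assoc,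
            ← pow_succ']
      have h1 := hit n
      rw [hαn, MulAut.one_apply, left_eq_mul] at h1
      obtain ⟨j, hj⟩ := hn
      have hz1 : z = 1 := by
        rw [hj, pow_succ, pow_mul, sq, hzz, one_pow, one_mul] at h1
        exact h1
      rw [hx', hz1, mul_one]
  refine MulEquiv.ext fun x => ?_
  obtain ⟨k, hk⟩ := hD x
  exact key k x hk

/-- The inertial quotient of an abelian 2-group with three involutions. -/
theorem free_and_card (hc : ∀ a b : D, a * b = b * a) (hD : IsPGroup 2 D)
    (h4 : Nat.card {x : D // x * x = 1} = 4) (A : Subgroup (MulAut D)) (hA : Odd (Nat.card A)) :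
    (∀ α ∈ A, ∀ w : D, w ≠ 1 → α w = w → α = 1) ∧ (Nat.card A = 1 ∨ Nat.card A = 3) := by
  have hpow : ∀ α ∈ A, α ^ Nat.card A = 1 := fun α hα =>
    congrArg Subtype.val (pow_card_eq_one' (x := (⟨α, hα⟩ : A)))
  refine ⟨fun α hα w hw hfix => ?_, ?_⟩
  · -- the involution in the subgroup of `w`
    obtain ⟨j, hj⟩ := IsPGroup.iff_orderOf.1 hD w
    obtain ⟨i, rfl⟩ : ∃ i, j = i + 1 := Nat.exists_eq_succ_of_ne_zero fun h => hw (by
      rw [h, pow_zero] at hj; exact orderOf_eq_one_iff.1 hj)
    set t := w ^ 2 ^ i with ht
    have htt : t * t = 1 := by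
      rw [ht, ← sq, ← pow_mul, ← pow_succ, ← hj, pow_orderOf_eq_one]
    have ht1 : t ≠ 1 := fun h => by
      have h1 := orderOf_dvd_of_pow_eq_one h
      rw [hj] at h1
      have h2 := Nat.le_of_dvd (by positivity) h1
      rw [pow_succ] at h2
      have : 0 < 2 ^ i := by positivity
      omega
    have htfix : α t = t := by rw [ht, map_pow, hfix]
    set S := (Finset.univ : Finset D).filter fun x => x * x = 1 with hS
    have hScard : S.card = 4 := by
      rw [hS, ← Fintype.card_subtype, ← Nat.card_eq_fintype_card, h4]
    have hαS : ∀ x ∈ S, α x ∈ S := fun x hx => Finset.mem_filter.2 ⟨Finset.mem_univ _, by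
      rw [← map_mul, (Finset.mem_filter.1 hx).2, map_one]⟩
    have h2 : ∀ x, x * x = 1 → α (α x) = x := by
      intro x hx
      have hxS : x ∈ S := Finset.mem_filter.2 ⟨Finset.mem_univ _, hx⟩
      by_cases hxfix : α x = x
      · rw [hxfix, hxfix]
      have hx1 : x ≠ 1 := fun h => hxfix (by rw [h, map_one])
      have hxt : x ≠ t := fun h => hxfix (by rw [h, htfix])
      have hax1 : α x ≠ 1 := fun h => hx1 (α.injective (h.trans (map_one α).symm))
      have haxt : α x ≠ t := fun h => hxt (α.injective (h.trans htfix.symm))
      have hsub : ({1, t, x, α x} : Finset D) ⊆ S := by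
        intro y hy
        simp only [Finset.mem_insert, Finset.mem_singleton] at hy
        rcases hy with rfl | rfl | rfl | rfl
        · exact Finset.mem_filter.2 ⟨Finset.mem_univ _, one_mul 1⟩
        · exact Finset.mem_filter.2 ⟨Finset.mem_univ _, htt⟩
        · exact hxS
        · exact hαS _ hxS
      have hcard : ({1, t, x, α x} : Finset D).card = 4 := by
        rw [Finset.card_insert_of_notMem, Finset.card_insert_of_notMem,
          Finset.card_insert_of_notMem, Finset.card_singleton]
        · simpa using Ne.symm hxfix
        · simp [Ne.symm hxt, Ne.symm haxt]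
        · simp [Ne.symm ht1, Ne.symm hx1, Ne.symm hax1]
      have heq := Finset.eq_of_subset_of_card_le hsub (by rw [hScard, hcard])
      have hmem := hαS _ (hαS _ hxS)
      rw [← heq] at hmem
      simp only [Finset.mem_insert, Finset.mem_singleton] at hmem
      rcases hmem with h | h | h | h
      · exact absurd (α.injective (h.trans (map_one α).symm)) hax1
      · exact absurd (α.injective (h.trans htfix.symm)) haxt
      · exact h
      · exact absurd (α.injective h) hxfix
    have hsq : α ^ 2 = 1 := eq_one_of_fix_involutions hc hD hA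
      (by rw [← pow_mul, mul_comm, pow_mul, hpow α hα, one_pow])
      fun z hz => by rw [sq, MulAut.mul_apply]; exact h2 z hz
    obtain ⟨l, hl⟩ := hA
    have h := hpow α hα
    rwa [hl, pow_succ, pow_mul, hsq, one_pow, one_mul] at h
  · let f : A →* Equiv.Perm {x : D // x * x = 1} :=
      { toFun := fun α => (α.1.toEquiv).subtypeEquiv fun x => by
          constructor
          · intro hx
            show α.1 x * α.1 x = 1
            rw [← map_mul, hx, map_one]
          · intro hx
            have hx' : α.1 (x * x) = α.1 1 := by rw [map_mul, map_one]; exact hx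
            exact α.1.injective hx'
        map_one' := Equiv.ext fun _ => rfl
        map_mul' := fun _ _ => Equiv.ext fun _ => rfl }
    have hf : Function.Injective f := (injective_iff_map_eq_one f).2 fun α hα =>
      Subtype.ext (eq_one_of_fix_involutions hc hD hA (hpow α.1 α.2) fun z hz =>
        congrArg (fun σ : Equiv.Perm {x : D // x * x = 1} =>
          ((σ ⟨z, hz⟩ : {x : D // x * x = 1}) : D)) hα)
    have h24 := Subgroup.card_dvd_of_injective f hf
    rw [Nat.card_perm, h4] at h24
    have hle := Nat.le_of_dvd (by decide) h24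
    have e24 : Nat.factorial 4 = 24 := rfl
    rw [e24] at h24 hle
    obtain ⟨l, hl⟩ := hA
    have hl' : l ≤ 11 := by omega
    interval_cases l <;> simp_all

end CfsgLib.Blocks.FreeAbelianCounts
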