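import Cfsg.Agent.Lib.Blocks.FreeAbelianCounts.Orth
import Cfsg.Agent.Lib.Blocks.CyclicProfile.Orbit

/-!
# The inertial quotient, the signs and the coefficients of the columns

The signed columns are invariant under the automorphisms induced by the stabilizer, and their
Fourier coefficients along the differences `θ - 1` are integers whose inner products are the order
of the inertial quotient, plus one on orbits.
-/

set_option autoImplicit false
set_option linter.unusedSectionVars false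
set_option maxHeartbeats 800000

namespace CfsgLib.Blocks.FreeAbelianCounts

open Cfsg CfsgLib.Blocks CfsgLib.BrauerPairs CfsgLib.BrouePuig CfsgLib.Blocks.CyclicProfile
open scoped Classical ComplexConjugate

universe u

variable {p : ℕ} {M : Ideal AlgInt} {hM : IsPModular p M} {G : Type u} [Group G] [Fintype G]
  {B : Set (IrrCharacter G)} {P : Subgroup G}
  {c : Set (IrrCharacter (Subgroup.centralizer (P : Set G)))}

/-- The automorphisms of the defect group induced by the stabilizer of the pair. -/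
noncomputable def autP (P : Subgroup G) (c : Set (IrrCharacter (Subgroup.centralizer (P : Set G)))) :
    Subgroup (MulAut P) :=
  (P.normalizerMonoidHom.comp (Subgroup.inclusion (pairStab_le_normalizer c))).range

theorem autP_apply {t : G} (ht : t ∈ pairStab P c) (w : P) :
    (((P.normalizerMonoidHom.comp (Subgroup.inclusion (pairStab_le_normalizer c))) ⟨t, ht⟩ w : P) : G)
      = t * (w : G) * t⁻¹ := rfl

theorem exists_of_mem_autP {α : MulAut P} (hα : α ∈ autP P c) :
    ∃ t ∈ pairStab P c, ∀ w : P, ((α w : P) : G) = t * (w : G) * t⁻¹ := by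
  obtain ⟨⟨t, ht⟩, rfl⟩ := hα
  exact ⟨t, ht, fun w => autP_apply ht w⟩

theorem exists_autP_of_mem {t : G} (ht : t ∈ pairStab P c) :
    ∃ α : autP P c, ∀ w : P, ((α.1 w : P) : G) = t * (w : G) * t⁻¹ :=
  ⟨⟨_, ⟨⟨t, ht⟩, rfl⟩⟩, fun w => autP_apply ht w⟩

theorem card_autP : Nat.card (autP P c)
    = (Subgroup.centralizer (P : Set G)).relIndex (pairStab P c) := by
  rw [autP, ← Subgroup.index_ker, Subgroup.relIndex]
  congr 1
  rw [← MonoidHom.comap_ker, Subgroup.normalizerMonoidHom_ker]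
  ext t
  simp [Subgroup.mem_subgroupOf]

theorem autP_free (hfree : FreeAct P c) :
    ∀ α ∈ autP P c, ∀ w : P, w ≠ 1 → α w = w → α = 1 := by
  intro α hα w hw hfix
  obtain ⟨t, ht, hta⟩ := exists_of_mem_autP hα
  have hC := hfree t ht w w.2 (fun h => hw (Subtype.ext h)) (by rw [← hta, hfix])
  refine MulEquiv.ext fun v => Subtype.ext ?_
  rw [hta, MulAut.one_apply, ← Subgroup.mem_centralizer_iff.1 hC v v.2, mul_inv_cancel_right]

variable [Fact p.Prime]

theorem one_le_blockRank' (hM : IsPModular p M) (hB : IsPBlock M B) : 1 ≤ blockRank p B := by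
  obtain ⟨χ, hχ⟩ := IsPBlock.nonempty hM hB
  rw [blockRank, Nat.one_le_iff_ne_zero, ← Nat.pos_iff_ne_zero, Module.finrank_pos_iff,
    Submodule.nontrivial_iff_ne_bot, Ne, Submodule.span_eq_bot]
  intro h
  have h1 := congrFun (h _ ⟨χ, hχ, rfl⟩) 1
  simp only at h1
  rw [pRegularPart_apply, if_pos (show IsPRegular p (1 : G) by
    rw [IsPRegular, orderOf_one]; exact hM.1.not_dvd_one)] at h1
  exact irr_one_ne_zero χ h1

theorem isIntegral_dlt (χ : IrrCharacter G) (a : BElem G) : IsIntegral ℤ (dlt χ a) := by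
  rw [dlt]
  refine IsIntegral.sum _ fun ψ _ => IsIntegral.mul ?_ (IsIntegral.mul ?_ ?_)
  · by_cases h : ψ ∈ a.2
    · rw [blockInd_of_mem h]; exact isIntegral_one
    · rw [blockInd_of_notMem h]; exact isIntegral_zero
  · obtain ⟨n, hn⟩ := resMult_nat χ ψ
    rw [hn]
    simpa using (isIntegral_algebraMap (R := ℤ) (A := ℂ) (x := (n : ℤ)))
  · refine IsIntegral.of_pow (orderOf_pos (selfC a.1)) ?_
    rw [centScalar_pow_eq_one ψ (selfC_center a.1) (pow_orderOf_eq_one _)]
    exact isIntegral_one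

theorem exists_card_eq (hab : ∀ x ∈ P, ∀ y ∈ P, x * y = y * x) (hfree : FreeAct P c)
    (hmax : IsMaximalBrauerPair p M B P c) (hM : IsPModular p M) :
    ∃ m : ℕ, Nat.card P = m * Nat.card (autP P c) + 1 ∧ Nat.card B = blockRank p B + m := by
  have h := card_block_free hM hmax hab hfree
  rw [← card_autP] at h
  have he : 0 < Nat.card (autP P c) := Nat.card_pos
  have hq : 0 < Nat.card P := Nat.card_pos
  have hle : blockRank p B ≤ Nat.card B := by
    by_contra hlt
    push Not at hlt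
    have h1 := Nat.mul_le_mul_right (Nat.card (autP P c)) hlt
    rw [Nat.succ_mul] at h1
    omega
  obtain ⟨m, hm⟩ := Nat.exists_eq_add_of_le hle
  refine ⟨m, ?_, hm⟩
  rw [hm, add_mul] at h
  omega

/-- A signed multiple of the columns is a generalized character off the identity. -/
theorem exists_sign (hmax : IsMaximalBrauerPair p M B P c) (hab : ∀ x ∈ P, ∀ y ∈ P, x * y = y * x)
    (hfree : FreeAct P c) (hP1 : P ≠ ⊥) :
    ∃ (M0 : ℤ) (ε : P → ℤ), ¬ (p : ℤ) ∣ M0 ∧ (∀ u, ε u = 1 ∨ ε u = -1) ∧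
      (∀ α ∈ autP P c, ∀ u, ε (α u) = ε u) ∧
      ∀ χ : IrrCharacter G, ∃ H : P → ℂ, IsGeneralizedCharacter P H ∧
        ∀ u, u ≠ 1 → (M0 : ℂ) * ((ε u : ℂ) * col hM hmax.1.1 χ u) = H u := by
  obtain ⟨i, hi⟩ := exists_source hM hmax hab
  have hnt : Nontrivial P := (Subgroup.nontrivial_iff_ne_bot P).2 hP1
  have hA : ∀ α ∈ autP P c, ∀ u : P, u ≠ 1 →
      rankFn hM hmax.1.1 i (Subgroup.zpowers (α u)) = rankFn hM hmax.1.1 i (Subgroup.zpowers u) := by
    intro α hα u hu
    obtain ⟨t, ht, hta⟩ := exists_of_mem_autP hα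
    obtain ⟨χ, hχ⟩ := IsPBlock.nonempty hM hmax.1.2.1
    have hau : α u ≠ 1 := fun h => hu (α.injective (h.trans (map_one α).symm))
    have h := tau_source_conj hmax hab hi χ ht u.2
    rw [← hta, tau_source hmax hab hfree hi χ hau, tau_source hmax hab hfree hi χ hu] at h
    have hc : dlt χ (bel hM hmax.1.1 (α u)) = dlt χ (bel hM hmax.1.1 u) :=
      col_conj hmax hab hfree ht hu (hta u) χ
    rw [hc] at h
    rw [rankFn_zpowers, rankFn_zpowers]
    exact_mod_cast mul_left_cancel₀ (col_ne_zero (hM := hM) hmax hab hfree hχ hu) h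
  have hodd : p = 2 → Odd (Nat.card (autP P c)) := by
    intro hp2
    obtain ⟨m, hm, -⟩ := exists_card_eq hab hfree hmax hM
    obtain ⟨a, ha⟩ := (IsPGroup.iff_card).1 hmax.1.1.1
    have ha0 : a ≠ 0 := fun h => hP1 (Subgroup.eq_bot_of_card_eq P (by rw [ha, h, pow_zero]))
    have heven : Even (m * Nat.card (autP P c) + 1) := by
      rw [← hm, ha, hp2]
      exact Even.pow_of_ne_zero even_two ha0
    have hodd' : Odd (m * Nat.card (autP P c)) := by
      rw [Nat.even_add_one, Nat.not_even_iff_odd] at heven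
      exact heven
    exact (Nat.odd_mul.1 hodd').2
  obtain ⟨Φ, M0, ε, hΦ, hM0, hε, hεA, hΦf⟩ := (rankSystem hmax hab hfree hP1 hi).exists_phi hM
    hmax.1.1.1 (fun a b => Subtype.ext (hab a a.2 b b.2)) hnt (autP P c) hA hodd
  refine ⟨M0, ε, hM0, hε, hεA, fun χ => ⟨_, gen_mul hΦ (isGen_tau_source hi χ), fun u hu => ?_⟩⟩
  show _ = Φ u * tau hM χ (u : G) i
  rw [tau_source hmax hab hfree hi χ hu, col]
  have h := hΦf u hu
  rw [rankFn_zpowers, Int.cast_natCast] at h
  linear_combination (-(dlt χ (bel hM hmax.1.1 u))) * h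

/-- The coefficient of a signed column at `θ - 1`. -/
noncomputable def coef (hM : IsPModular p M) (hP : IsBrauerPair p M P c) (ε : P → ℤ)
    (θ : IrrCharacter P) (χ : IrrCharacter G) : ℂ :=
  (Nat.card P : ℂ)⁻¹ *
    ∑ u ∈ Finset.univ.erase (1 : P),
      (ε u : ℂ) * col hM hP χ u * (conj ((θ : P → ℂ) u) - 1)

theorem coef_int (hmax : IsMaximalBrauerPair p M B P c) (hab : ∀ x ∈ P, ∀ y ∈ P, x * y = y * x)
    (ε : P → ℤ) {M0 : ℤ} (hM0 : ¬ (p : ℤ) ∣ M0) (θ : IrrCharacter P) (χ : IrrCharacter G)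
    {H : P → ℂ} (hH : IsGeneralizedCharacter P H)
    (hHu : ∀ u, u ≠ 1 → (M0 : ℂ) * ((ε u : ℂ) * col hM hmax.1.1 χ u) = H u) :
    ∃ n : ℤ, coef hM hmax.1.1 ε θ χ = (n : ℂ) := by
  have hc : ∀ a b : P, a * b = b * a := fun a b => Subtype.ext (hab a a.2 b b.2)
  have hq : (Nat.card P : ℂ) ≠ 0 := Char.card_ne_zero
  set S : ℂ := ∑ u ∈ Finset.univ.erase (1 : P),
    (ε u : ℂ) * col hM hmax.1.1 χ u * (conj ((θ : P → ℂ) u) - 1) with hS
  obtain ⟨n₁, hn₁⟩ := (Char.IsGeneralizedCharacter.classInner_int hH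
    (Char.IsCharacter.isGeneralizedCharacter (Char.isCharacter_irr θ)))
  obtain ⟨n₀, hn₀⟩ := (Char.IsGeneralizedCharacter.classInner_int hH
    (Char.IsCharacter.isGeneralizedCharacter (Char.isCharacter_irr (one P))))
  have hMS : (M0 : ℂ) * S = (Nat.card P : ℂ) * ((n₁ : ℂ) - n₀) := by
    rw [← hn₁, ← hn₀, Cfsg.classInner, Cfsg.classInner, ← mul_sub, ← mul_assoc,
      mul_inv_cancel₀ hq, one_mul, ← Finset.sum_sub_distrib,
      ← Finset.sum_erase_add _ _ (Finset.mem_univ (1 : P)), hS, Finset.mul_sum]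
    rw [lin_one hc θ, one_apply, sub_self, add_zero]
    refine Finset.sum_congr rfl fun u hu => ?_
    rw [← hHu u (Finset.mem_erase.1 hu).1, one_apply, map_one]
    ring
  set x := coef hM hmax.1.1 ε θ χ with hx
  have hxS : (Nat.card P : ℂ) * x = S := by
    rw [hx, coef, ← mul_assoc, mul_inv_cancel₀ hq, one_mul]
  have hMx : (M0 : ℂ) * x = (((n₁ - n₀ : ℤ)) : ℂ) := by
    apply mul_left_cancel₀ hq
    push_cast
    rw [← hMS, ← hxS]; ring
  have hint : IsIntegral ℤ S := IsIntegral.sum _ fun u _ => IsIntegral.mul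
    (IsIntegral.mul (isIntegral_algebraMap (R := ℤ) (A := ℂ) (x := ε u)) (isIntegral_dlt χ _))
    (IsIntegral.sub (by rw [conj_irr]; exact irr_isIntegral θ _) isIntegral_one)
  obtain ⟨a, ha⟩ := (IsPGroup.iff_card).1 hmax.1.1.1
  have hcop : IsCoprime M0 (Nat.card P : ℤ) := by
    rw [ha, Nat.cast_pow]
    refine IsCoprime.pow_right ?_
    exact ((Nat.prime_iff_prime_int.1 hM.1).coprime_iff_not_dvd.2 hM0).symm
  obtain ⟨r, s, hrs⟩ := hcop
  have hxint : IsIntegral ℤ x := by
    have : x = (r : ℂ) * ((M0 : ℂ) * x) + (s : ℂ) * ((Nat.card P : ℂ) * x) := by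
      have h1 : (r : ℂ) * (M0 : ℂ) + (s : ℂ) * (Nat.card P : ℂ) = 1 := by exact_mod_cast hrs
      linear_combination (-x) * h1
    rw [this, hMx, hxS]
    exact IsIntegral.add (IsIntegral.mul isIntegral_algebraMap isIntegral_algebraMap)
      (IsIntegral.mul isIntegral_algebraMap hint)
  have hM0' : (M0 : ℂ) ≠ 0 := Int.cast_ne_zero.2 fun h => hM0 (h ▸ dvd_zero _)
  refine Char.exists_int_of_isIntegral_rat hxint (q := ((n₁ - n₀ : ℤ) : ℚ) / (M0 : ℚ)) ?_
  push_cast
  rw [eq_div_iff hM0', mul_comm, hMx]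
  push_cast
  rfl

theorem coef_eq_zero (hmax : IsMaximalBrauerPair p M B P c)
    (hab : ∀ x ∈ P, ∀ y ∈ P, x * y = y * x) (hfree : FreeAct P c) (ε : P → ℤ) (θ : IrrCharacter P)
    {χ : IrrCharacter G} (hχ : χ ∉ B) : coef hM hmax.1.1 ε θ χ = 0 := by
  rw [coef, Finset.sum_eq_zero fun u hu => ?_, mul_zero]
  rw [col_eq_zero hmax hab hfree hχ (Finset.mem_erase.1 hu).1, mul_zero, zero_mul]

theorem sum_coef_deg (hmax : IsMaximalBrauerPair p M B P c)
    (hab : ∀ x ∈ P, ∀ y ∈ P, x * y = y * x) (hfree : FreeAct P c) (ε : P → ℤ) (θ : IrrCharacter P) :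
    ∑ χ : IrrCharacter G, coef hM hmax.1.1 ε θ χ * (χ : G → ℂ) 1 = 0 := by
  simp only [coef, Finset.mul_sum, Finset.sum_mul]
  rw [Finset.sum_comm]
  refine Finset.sum_eq_zero fun u hu => ?_
  refine Eq.trans ?_ (mul_eq_zero_of_right ((Nat.card P : ℂ)⁻¹ * (ε u : ℂ) *
    (conj ((θ : P → ℂ) u) - 1)) (sum_col_deg (hM := hM) hmax hab hfree (Finset.mem_erase.1 hu).1))
  rw [Finset.mul_sum]
  exact Finset.sum_congr rfl fun χ _ => by ring

theorem exists_coef_ne_zero (hmax : IsMaximalBrauerPair p M B P c)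
    (hab : ∀ x ∈ P, ∀ y ∈ P, x * y = y * x) (hfree : FreeAct P c) (hP1 : P ≠ ⊥) (ε : P → ℤ)
    (hε : ∀ u, ε u = 1 ∨ ε u = -1) {χ : IrrCharacter G} (hχ : χ ∈ B) :
    ∃ θ : IrrCharacter P, θ ≠ one P ∧ coef hM hmax.1.1 ε θ χ ≠ 0 := by
  have hc : ∀ a b : P, a * b = b * a := fun a b => Subtype.ext (hab a a.2 b b.2)
  have hnt : Nontrivial P := (Subgroup.nontrivial_iff_ne_bot P).2 hP1
  obtain ⟨v, hv⟩ := exists_ne (1 : P)
  by_contra hno
  push Not at hno
  have hall : ∀ θ, coef hM hmax.1.1 ε θ χ = 0 := fun θ => by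
    by_cases h : θ = one P
    · subst h
      simp [coef, one_apply]
    · exact hno θ h
  have hv' : (Nat.card P : ℂ)⁻¹ * ∑ θ : IrrCharacter P, (∑ u ∈ Finset.univ.erase (1 : P),
      (ε u : ℂ) * col hM hmax.1.1 χ u * (conj ((θ : P → ℂ) u) - 1)) * (θ : P → ℂ) v = 0 := by
    rw [Finset.mul_sum]
    exact Finset.sum_eq_zero fun θ _ => by rw [← mul_assoc, ← coef, hall, zero_mul]
  have hinner : ∀ u : P, ∑ θ : IrrCharacter P, (conj ((θ : P → ℂ) u) - 1) * (θ : P → ℂ) v
      = if u = v then (Nat.card P : ℂ) else 0 := by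
    intro u
    simp only [sub_mul, one_mul, Finset.sum_sub_distrib, conj_irr]
    rw [Finset.sum_congr rfl fun θ _ => (lin_mul hc θ u⁻¹ v).symm, sum_lin hc, sum_lin hc,
      if_neg hv, sub_zero]
    by_cases h : u = v <;> simp [h, inv_mul_eq_one]
  simp only [Finset.sum_mul] at hv'
  rw [Finset.sum_comm] at hv'
  simp only [mul_assoc, ← Finset.mul_sum, hinner, mul_ite, mul_zero, Finset.sum_ite_eq',
    Finset.mem_erase, Finset.mem_univ, and_true, ne_eq, hv, not_false_eq_true, if_true] at hv'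
  rw [mul_eq_zero, inv_eq_zero, mul_eq_zero, mul_eq_zero] at hv'
  have hne := col_ne_zero (hM := hM) hmax hab hfree hχ hv
  have hε0 : (ε v : ℂ) ≠ 0 := by rcases hε v with h | h <;> simp [h]
  rcases hv' with h | h | h | h
  · exact Char.card_ne_zero h
  · exact hε0 h
  · exact hne h
  · exact Char.card_ne_zero h

/-- The inner products of the coefficients. -/
theorem sum_coef_mul (hmax : IsMaximalBrauerPair p M B P c)
    (hab : ∀ x ∈ P, ∀ y ∈ P, x * y = y * x) (hfree : FreeAct P c) (ε : P → ℤ)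
    (hε : ∀ u, ε u = 1 ∨ ε u = -1) (hεA : ∀ α ∈ autP P c, ∀ u, ε (α u) = ε u)
    {θ η : IrrCharacter P} (hθ : θ ≠ one P) (hη : η ≠ one P) :
    ∑ χ : IrrCharacter G, coef hM hmax.1.1 ε θ χ * conj (coef hM hmax.1.1 ε η χ)
      = (Nat.card (autP P c) : ℂ) +
        if orbitSum (autP P c) θ = orbitSum (autP P c) η then 1 else 0 := by
  have hc : ∀ a b : P, a * b = b * a := fun a b => Subtype.ext (hab a a.2 b b.2)
  have hfreeA := autP_free (c := c) hfree
  set q : ℂ := (Nat.card P : ℂ) with hqdef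
  have hq : q ≠ 0 := Char.card_ne_zero
  set E := (Finset.univ : Finset P).erase 1
  set f : P → ℂ := fun u => conj ((θ : P → ℂ) u) - 1 with hf
  set g : P → ℂ := fun u => (η : P → ℂ) u - 1 with hg
  have horth : ∀ u ∈ E, ∀ v ∈ E,
      ∑ χ : IrrCharacter G, col hM hmax.1.1 χ u * conj (col hM hmax.1.1 χ v)
        = ∑ α : autP P c, if α.1 u = v then q else 0 := by
    intro u hu v hv
    have hu1 := (Finset.mem_erase.1 hu).1
    have hv1 := (Finset.mem_erase.1 hv).1
    by_cases hex : ∃ α : autP P c, α.1 u = v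
    · obtain ⟨α, hα⟩ := hex
      rw [Finset.sum_eq_single α (fun β _ hβ => if_neg fun h => hβ (Subtype.ext (by
        have h2 := hfreeA _ ((autP P c).mul_mem ((autP P c).inv_mem β.2) α.2) u hu1
          (by rw [MulAut.mul_apply, hα, ← h, MulAut.inv_apply_self])
        exact (inv_mul_eq_one.1 h2)))) (by simp), if_pos hα]
      obtain ⟨t, ht, hta⟩ := exists_of_mem_autP α.2
      subst hα
      rw [hqdef, ← sum_col_self (hM := hM) hmax hab hfree hu1]
      exact Finset.sum_congr rfl fun χ _ => by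
        rw [col_conj hmax hab hfree ht hu1 (hta u) χ]
    · rw [Finset.sum_eq_zero (s := (Finset.univ : Finset (autP P c)))
        fun α _ => if_neg fun h => hex ⟨α, h⟩]
      refine sum_col_orth hmax hab hfree hu1 hv1 fun t ht htv => hex ?_
      obtain ⟨α, hα⟩ := exists_autP_of_mem ht
      exact ⟨α, Subtype.ext ((hα u).trans htv)⟩
  have hexp : ∑ χ : IrrCharacter G, coef hM hmax.1.1 ε θ χ * conj (coef hM hmax.1.1 ε η χ)
      = q⁻¹ * q⁻¹ * ∑ u ∈ E, ∑ v ∈ E, (ε u : ℂ) * (ε v : ℂ) * f u * g v *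
          ∑ χ : IrrCharacter G, col hM hmax.1.1 χ u * conj (col hM hmax.1.1 χ v) := by
    have hconj : conj q = q := by rw [hqdef, map_natCast]
    simp only [coef, map_mul, map_inv₀, hconj, map_sum, map_sub, map_one, map_intCast,
      Complex.conj_conj, Finset.mul_sum, Finset.sum_mul, hf, hg, ← hqdef]
    rw [Finset.sum_comm]
    refine (Finset.sum_congr rfl fun v _ => Finset.sum_comm).trans ?_
    rw [Finset.sum_comm]
    refine Finset.sum_congr rfl fun u _ => Finset.sum_congr rfl fun v _ =>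
      Finset.sum_congr rfl fun χ _ => ?_
    ring
  have hε2 : ∀ u, (ε u : ℂ) * (ε u : ℂ) = 1 := fun u => by rcases hε u with h | h <;> simp [h]
  have hcoll : ∑ u ∈ E, ∑ v ∈ E, (ε u : ℂ) * (ε v : ℂ) * f u * g v *
          ∑ χ : IrrCharacter G, col hM hmax.1.1 χ u * conj (col hM hmax.1.1 χ v)
      = q * ∑ α : autP P c, ∑ u : P, f u * g (α.1 u) := by
    rw [Finset.sum_congr rfl fun u hu => Finset.sum_congr rfl fun v hv => by rw [horth u hu v hv],
      Finset.mul_sum]
    simp only [Finset.mul_sum, mul_ite, mul_zero]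
    rw [Finset.sum_congr rfl fun u _ => Finset.sum_comm, Finset.sum_comm]
    refine Finset.sum_congr rfl fun α _ => ?_
    rw [← Finset.sum_erase (Finset.univ : Finset P) (a := 1) (f := fun u => q * (f u * g (α.1 u)))
      (by simp [hf, lin_one hc])]
    refine Finset.sum_congr rfl fun u hu => ?_
    have hau : α.1 u ≠ 1 := fun h =>
      (Finset.mem_erase.1 hu).1 (α.1.injective (h.trans (map_one α.1).symm))
    rw [Finset.sum_ite_eq, if_pos (Finset.mem_erase.2 ⟨hau, Finset.mem_univ _⟩), hεA α.1 α.2 u]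
    linear_combination (f u * g (α.1 u) * q) * hε2 u
  have hterm : ∀ α : autP P c, ∑ u : P, f u * g (α.1 u)
      = q * ((if twist α.1 η = θ then 1 else 0) + 1) := by
    intro α
    have h0 : ∀ φ ψ : IrrCharacter P, ∑ u : P, (φ : P → ℂ) u * conj ((ψ : P → ℂ) u)
        = q * if φ = ψ then 1 else 0 := fun φ ψ => by
      rw [← Char.classInner_irrCharacter, Cfsg.classInner, ← mul_assoc, ← hqdef,
        mul_inv_cancel₀ hq, one_mul]
    have e1 := h0 (twist α.1 η) θ
    have e2 := h0 (twist α.1 η) (one P)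
    have e3 := h0 (one P) θ
    have e4 := h0 (one P) (one P)
    rw [if_neg (fun h => hη ((twist_eq_one_iff _ _).1 h))] at e2
    rw [if_neg (Ne.symm hθ)] at e3
    simp only [one_apply, map_one, mul_one, one_mul, mul_zero, twist_apply, if_pos] at e1 e2 e3 e4
    simp only [hf, hg, sub_mul, mul_sub, one_mul, mul_one, Finset.sum_sub_distrib]
    rw [e2, e3, e4, Finset.sum_congr rfl fun u _ => mul_comm (conj ((θ : P → ℂ) u)) _, e1]
    ring
  rw [hexp, hcoll, Finset.sum_congr rfl fun α _ => hterm α, ← Finset.mul_sum, Finset.sum_add_distrib,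
    Finset.sum_const, nsmul_eq_mul, mul_one, Finset.card_univ, ← Nat.card_eq_fintype_card]
  have hcount : (∑ α : autP P c, if twist α.1 η = θ then (1 : ℂ) else 0)
      = if orbitSum (autP P c) θ = orbitSum (autP P c) η then 1 else 0 := by
    split_ifs with h
    · obtain ⟨α, hα⟩ := (orbitSum_eq_iff η θ).1 h.symm
      rw [Finset.sum_eq_single α (fun β _ hβ => if_neg fun h' =>
        hβ (twist_inj hc hfreeA hη (h'.trans hα.symm))) (by simp), if_pos hα]
    · exact Finset.sum_eq_zero fun α _ =>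
        if_neg fun h' => h ((orbitSum_eq_iff η θ).2 ⟨α, h'⟩).symm
  rw [hcount]
  field_simp
  ring

end CfsgLib.Blocks.FreeAbelianCounts
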