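import Cfsg.Agent.Lib.BrouePuig.Star
import Cfsg.Agent.Lib.BrouePuig.PGroupVirtual
import Cfsg.Agent.Lib.Char.Virtual
import Cfsg.Agent.Lib.Blocks.CyclicProfile.Orbit

/-!
# Signs for a system of ranks on the subgroups of an abelian `p`-group

A function on the subgroups is a rank system if above each nontrivial subgroup `R` its square is
the square of the absolute value of a generalized character. Then there is a generalized
character of the whole group which agrees with it up to sign on the nonidentity elements.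
-/

set_option autoImplicit false
set_option linter.unusedSectionVars false
set_option maxHeartbeats 800000

namespace CfsgLib.Blocks.FreeAbelianCounts

open Cfsg CfsgLib.Blocks CfsgLib.BrouePuig CfsgLib.Blocks.CyclicProfile
open scoped Classical ComplexConjugate

universe u

variable {p : ℕ} {M : Ideal AlgInt} {P : Type u} [Group P] [Fintype P]

theorem gen_const (z : ℤ) : IsGeneralizedCharacter P (fun _ : P => (z : ℂ)) := by
  refine ⟨z.toNat • (fun _ => (1 : ℂ)), (-z).toNat • (fun _ => (1 : ℂ)),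
    Char.IsCharacter.nsmul Char.isCharacter_one _, Char.IsCharacter.nsmul Char.isCharacter_one _,
    funext fun _ => ?_⟩
  rw [Pi.sub_apply, Pi.smul_apply, Pi.smul_apply, nsmul_one, nsmul_one]
  exact_mod_cast congrArg (fun x : ℤ => (x : ℂ)) (Int.toNat_sub_toNat_neg z).symm

theorem gen_star {a : P → ℂ} (ha : IsGeneralizedCharacter P a) :
    IsGeneralizedCharacter P fun x => conj (a x) := by
  obtain ⟨a1, a2, h1, h2, rfl⟩ := ha
  exact ⟨_, _, Char.IsCharacter.conj' h1, Char.IsCharacter.conj' h2, by funext x; simp⟩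

theorem gen_finset_sum {ι : Type*} (s : Finset ι) (F : ι → P → ℂ)
    (h : ∀ i ∈ s, IsGeneralizedCharacter P (F i)) :
    IsGeneralizedCharacter P fun x => ∑ i ∈ s, F i x := by
  induction s using Finset.induction_on with
  | empty => simpa using gen_zero P
  | insert a s ha ih =>
    simp only [Finset.sum_insert ha]
    exact gen_add (h a (Finset.mem_insert_self a s))
      (ih fun i hi => h i (Finset.mem_insert_of_mem hi))

theorem gen_finset_prod {ι : Type*} (s : Finset ι) (F : ι → P → ℂ)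
    (h : ∀ i ∈ s, IsGeneralizedCharacter P (F i)) :
    IsGeneralizedCharacter P fun x => ∏ i ∈ s, F i x := by
  induction s using Finset.induction_on with
  | empty => simpa using gen_const (P := P) 1
  | insert a s ha ih =>
    simp only [Finset.prod_insert ha]
    exact gen_mul (h a (Finset.mem_insert_self a s))
      (ih fun i hi => h i (Finset.mem_insert_of_mem hi))

/-- Values congruent modulo `p`. -/
theorem dvd_sub_of_gen (hM : IsPModular p M) (hp : IsPGroup p P) {a : P → ℂ}
    (ha : IsGeneralizedCharacter P a) {u : P} {x y : ℤ} (hx : a u = x) (hy : a 1 = y) :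
    (p : ℤ) ∣ x - y := by
  refine (LI.intCast_iff hM _).1 ?_
  push_cast
  rw [← hx, ← hy]
  exact gen_congr hM hp ha u

/-- A generalized character of an abelian group has its norm congruent to its degree modulo 2. -/
theorem norm_parity (hc : ∀ a b : P, a * b = b * a) {a : P → ℂ}
    (ha : IsGeneralizedCharacter P a) {y : ℤ} (hy : a 1 = y) :
    ∃ N : ℤ, ∑ u : P, a u * conj (a u) = (Nat.card P : ℂ) * N ∧ (2 : ℤ) ∣ N - y := by
  obtain ⟨z, -, hexp, hn⟩ := Char.IsGeneralizedCharacter.exists_coeff ha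
  refine ⟨∑ φ, z φ * z φ, ?_, ?_⟩
  · rw [← hn, Cfsg.classInner, ← mul_assoc, mul_inv_cancel₀ Char.card_ne_zero, one_mul]
  · have h1 : y = ∑ φ, z φ := by
      apply Int.cast_injective (α := ℂ)
      rw [← hy, hexp, Int.cast_sum, Finset.sum_apply]
      refine Finset.sum_congr rfl fun φ _ => ?_
      rw [Pi.smul_apply, lin_one hc, smul_eq_mul, mul_one]
    rw [h1, ← Finset.sum_sub_distrib]
    refine Finset.dvd_sum fun φ _ => ?_
    rcases Int.even_or_odd (z φ) with ⟨k, hk⟩ | ⟨k, hk⟩
    · exact ⟨2 * k * k - k, by rw [hk]; ring⟩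
    · exact ⟨2 * k * k + k, by rw [hk]; ring⟩

/-- Inversion of a generalized character with values prime to `p`. -/
theorem exists_inverse (hp : p.Prime) (g : P → ℤ) (hg : IsGeneralizedCharacter P fun u => (g u : ℂ))
    (hgp : ∀ u, ¬ (p : ℤ) ∣ g u) :
    ∃ (R : P → ℂ) (M0 : ℤ), IsGeneralizedCharacter P R ∧ ¬ (p : ℤ) ∣ M0 ∧
      ∀ u, (g u : ℂ) * R u = M0 := by
  have key : ∀ s : Finset ℤ, ∃ K : P → ℂ, IsGeneralizedCharacter P K ∧
      ∀ u, ∏ v ∈ s, ((v : ℂ) - g u) = ((∏ v ∈ s, v : ℤ) : ℂ) - (g u : ℂ) * K u := by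
    intro s
    induction s using Finset.induction_on with
    | empty => exact ⟨fun _ => 0, gen_zero P, fun u => by simp⟩
    | insert a s ha ih =>
      obtain ⟨K, hK, hKu⟩ := ih
      refine ⟨fun u => (a : ℂ) * K u + (((∏ v ∈ s, v : ℤ) : ℂ) + (((-1 : ℤ) : ℂ) * ((g u : ℂ) * K u))),
        gen_add (gen_mul (gen_const a) hK)
          (gen_add (gen_const _) (gen_mul (gen_const (-1)) (gen_mul hg hK))), fun u => ?_⟩
      rw [Finset.prod_insert ha, Finset.prod_insert ha, hKu]
      push_cast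
      ring
  set s := Finset.univ.image g
  obtain ⟨K, hK, hKu⟩ := key s
  refine ⟨K, ∏ v ∈ s, v, hK, fun hd => ?_, fun u => ?_⟩
  · obtain ⟨v, hv, hvd⟩ := (Nat.prime_iff_prime_int.1 hp).exists_mem_finset_dvd hd
    obtain ⟨u, -, rfl⟩ := Finset.mem_image.1 hv
    exact hgp u hvd
  · have h := hKu u
    rw [Finset.prod_eq_zero (f := fun v : ℤ => (v : ℂ) - g u)
      (Finset.mem_image_of_mem g (Finset.mem_univ u)) (sub_self _)] at h
    linear_combination h

/-- The sign with which an odd or unit value can be extended. -/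
theorem exists_sign_of_dvd (hp : p.Prime) {f x D : ℤ} {k : ℕ} (hf : ¬ (p : ℤ) ∣ f)
    (hx : ¬ (p : ℤ) ∣ x) (hD : f * f - x * x = (p : ℤ) ^ k * D) (h2 : p = 2 → (2 : ℤ) ∣ D) :
    ∃ y : ℤ, y ^ 2 = f ^ 2 ∧ (p : ℤ) ^ k ∣ x - y := by
  have hpi := Nat.prime_iff_prime_int.1 hp
  suffices h : (p : ℤ) ^ k ∣ x - f ∨ (p : ℤ) ^ k ∣ x + f by
    rcases h with h | h
    · exact ⟨f, rfl, h⟩
    · exact ⟨-f, by ring, by rwa [sub_neg_eq_add]⟩
  by_cases hp2 : p = 2
  · subst hp2
    obtain ⟨D', rfl⟩ := h2 rfl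
    obtain ⟨f', rfl⟩ : Odd f := Int.not_even_iff_odd.1 fun h => hf (by exact_mod_cast h.two_dvd)
    obtain ⟨x', rfl⟩ : Odd x := Int.not_even_iff_odd.1 fun h => hx (by exact_mod_cast h.two_dvd)
    set a := x' - f' with ha
    set b := x' + f' + 1 with hb
    have hmul : a * (2 * b) = (2 : ℤ) ^ k * (-D') := by
      rw [ha, hb]; push_cast at hD; linarith
    rcases Int.even_or_odd a with hae | hao
    · refine Or.inl ?_
      have hbo : ¬ (2 : ℤ) ∣ b := by
        rintro ⟨j, hj⟩
        obtain ⟨i, hi⟩ := hae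
        omega
      have h : (2 : ℤ) ^ k ∣ 2 * a * b := ⟨-D', by rw [← hmul]; ring⟩
      have := ((Int.prime_two.coprime_iff_not_dvd.2 hbo).pow_left).dvd_of_dvd_mul_right h
      push_cast
      rwa [show 2 * x' + 1 - (2 * f' + 1) = 2 * a by rw [ha]; ring]
    · refine Or.inr ?_
      have h : (2 : ℤ) ^ k ∣ a * (2 * b) := ⟨-D', hmul⟩
      have := ((Int.prime_two.coprime_iff_not_dvd.2
        fun h => (Int.not_even_iff_odd.2 hao) (even_iff_two_dvd.2 h)).pow_left).dvd_of_dvd_mul_left h
      push_cast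
      rwa [show 2 * x' + 1 + (2 * f' + 1) = 2 * b by rw [hb]; ring]
  · have hd : (p : ℤ) ^ k ∣ (x - f) * (x + f) := ⟨-D, by linarith⟩
    by_cases h1 : (p : ℤ) ∣ x - f
    · refine Or.inl ((hpi.coprime_iff_not_dvd.2 fun h => hf ?_).pow_left.dvd_of_dvd_mul_right hd)
      have h3 : (p : ℤ) ∣ 2 * f := by simpa [two_mul] using dvd_sub h h1
      refine (hpi.dvd_or_dvd h3).resolve_left fun h4 => hp2 ?_
      exact (Nat.prime_dvd_prime_iff_eq hp Nat.prime_two).1 (by exact_mod_cast h4)
    · exact Or.inr ((hpi.coprime_iff_not_dvd.2 h1).pow_left.dvd_of_dvd_mul_left hd)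

/-! ### Rank systems -/

/-- A rank system on the subgroups. -/
structure RankSystem (p : ℕ) (f : Subgroup P → ℤ) : Prop where
  loc : ∀ R : Subgroup P, R ≠ ⊥ → ∃ G : P → ℂ, IsGeneralizedCharacter P G ∧
    ∀ u, G u * conj (G u) = (f (R ⊔ Subgroup.zpowers u) : ℂ) ^ 2
  top : ¬ (p : ℤ) ∣ f ⊤

variable {f : Subgroup P → ℤ}

theorem sup_zpowers_of_mem {R : Subgroup P} {u : P} (hu : u ∈ R) : R ⊔ Subgroup.zpowers u = R :=
  sup_eq_left.2 (Subgroup.zpowers_le.2 hu)

theorem lt_sup_zpowers {R : Subgroup P} {u : P} (hu : u ∉ R) : R < R ⊔ Subgroup.zpowers u :=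
  lt_of_le_of_ne le_sup_left fun h => hu (h ▸ Subgroup.mem_sup_right (Subgroup.mem_zpowers u))

theorem RankSystem.not_dvd (hf : RankSystem p f) (hM : IsPModular p M) (hp : IsPGroup p P) :
    ∀ R : Subgroup P, R ≠ ⊥ → ¬ (p : ℤ) ∣ f R := by
  intro R
  induction hn : R.index using Nat.strong_induction_on generalizing R with
  | _ n ih =>
  intro hR
  by_cases htop : R = ⊤
  · subst htop; exact hf.top
  obtain ⟨u, hu⟩ : ∃ u, u ∉ R := not_forall.1 fun h => htop ((Subgroup.eq_top_iff' R).2 h)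
  obtain ⟨G, hG, hGu⟩ := hf.loc R hR
  have hlt := lt_sup_zpowers hu
  have h1 : (p : ℤ) ∣ f (R ⊔ Subgroup.zpowers u) ^ 2 - f R ^ 2 :=
    dvd_sub_of_gen hM hp (gen_mul hG (gen_star hG)) (u := u) (by push_cast; exact hGu u)
      (by rw [hGu 1, sup_zpowers_of_mem R.one_mem]; push_cast; ring)
  intro hd
  refine ih _ (hn ▸ Subgroup.index_strictAnti hlt) _ rfl (fun h => hR (le_bot_iff.1 (h ▸ hlt.le))) ?_
  have h2 : (p : ℤ) ∣ f (R ⊔ Subgroup.zpowers u) ^ 2 := by
    have := dvd_add h1 (hd.mul_left (f R))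
    rwa [← sq, sub_add_cancel] at this
  exact (Nat.prime_iff_prime_int.1 hM.1).dvd_of_dvd_pow h2

/-- The alternating sum over the families of proper overgroups. -/
noncomputable def altSum (R : Subgroup P) (φ : Subgroup P → ℤ) (u : P) : ℤ :=
  -∑ S ∈ ((Finset.univ.filter fun L : Subgroup P => R < L).powerset.filter fun S => S.Nonempty),
    (-1) ^ S.card * φ (R ⊔ S.sup id ⊔ Subgroup.zpowers u)

theorem lt_sup_of_nonempty {R : Subgroup P} {S : Finset (Subgroup P)}
    (hS : S ∈ ((Finset.univ.filter fun L : Subgroup P => R < L).powerset.filter fun S => S.Nonempty)) :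
    R < R ⊔ S.sup id := by
  obtain ⟨hS1, L, hL⟩ := Finset.mem_filter.1 hS
  exact ((Finset.mem_filter.1 (Finset.mem_powerset.1 hS1 hL)).2).trans_le
    ((Finset.le_sup (f := id) hL).trans le_sup_right)

theorem gen_altSum {R : Subgroup P} {φ : Subgroup P → ℤ}
    (h : ∀ L, R < L → IsGeneralizedCharacter P fun u => (φ (L ⊔ Subgroup.zpowers u) : ℂ)) :
    IsGeneralizedCharacter P fun u => (altSum R φ u : ℂ) := by
  simp only [altSum, Int.cast_neg, Int.cast_sum, Int.cast_mul]
  have h1 := gen_mul (gen_const (P := P) (-1)) (gen_finset_sum _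
    (fun (S : Finset (Subgroup P)) (u : P) =>
      (((-1 : ℤ) ^ S.card : ℤ) : ℂ) * (φ (R ⊔ S.sup id ⊔ Subgroup.zpowers u) : ℂ))
    fun S hS => gen_mul (gen_const _) (h _ (lt_sup_of_nonempty hS)))
  convert h1 using 2 with u
  simp

theorem altSum_eq {R : Subgroup P} (φ : Subgroup P → ℤ) {u : P} (hu : u ∉ R) :
    altSum R φ u = φ (R ⊔ Subgroup.zpowers u) := by
  set 𝓛 := Finset.univ.filter fun L : Subgroup P => R < L with h𝓛
  set ℓ := R ⊔ Subgroup.zpowers u with hℓ
  have hmem : ℓ ∈ 𝓛 := Finset.mem_filter.2 ⟨Finset.mem_univ _, lt_sup_zpowers hu⟩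
  set F : Finset (Subgroup P) → ℤ :=
    fun S => (-1) ^ S.card * φ (R ⊔ S.sup id ⊔ Subgroup.zpowers u) with hF
  have hall : ∑ S ∈ 𝓛.powerset, F S = 0 := by
    rw [← Finset.insert_erase hmem, Finset.sum_powerset_insert (Finset.notMem_erase ℓ 𝓛),
      ← Finset.sum_add_distrib]
    refine Finset.sum_eq_zero fun S hS => ?_
    have hn : ℓ ∉ S := fun h => Finset.notMem_erase ℓ 𝓛 (Finset.mem_powerset.1 hS h)
    have hsup : R ⊔ (insert ℓ S).sup id ⊔ Subgroup.zpowers u
        = R ⊔ S.sup id ⊔ Subgroup.zpowers u := by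
      rw [Finset.sup_insert, id_eq, hℓ]
      refine le_antisymm (sup_le (sup_le (le_sup_left.trans le_sup_left)
        (sup_le (sup_le (le_sup_left.trans le_sup_left) le_sup_right)
          (le_sup_right.trans le_sup_left))) le_sup_right) ?_
      exact sup_le_sup_right (sup_le_sup_left le_sup_right _) _
    simp only [hF, Finset.card_insert_of_notMem hn, hsup, pow_succ]
    ring
  rw [← Finset.sum_filter_add_sum_filter_not _ (fun S : Finset (Subgroup P) => S.Nonempty),
    show 𝓛.powerset.filter (fun S => ¬ S.Nonempty) = {∅} by ext; simp +contextual,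
    Finset.sum_singleton] at hall
  simp only [hF, Finset.card_empty, pow_zero, one_mul, Finset.sup_empty, sup_bot_eq] at hall
  rw [altSum]
  linarith

theorem altSum_of_mem {R : Subgroup P} (φ : Subgroup P → ℤ) {u : P} (hu : u ∈ R) :
    altSum R φ u = altSum R φ 1 := by
  have h : ∀ L, R ≤ L → L ⊔ Subgroup.zpowers u = L ⊔ Subgroup.zpowers 1 := fun L hL => by
    rw [sup_zpowers_of_mem (hL hu), sup_zpowers_of_mem L.one_mem]
  simp only [altSum, h _ le_sup_left]

theorem gen_indicator (hc : ∀ a b : P, a * b = b * a) (R : Subgroup P) :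
    IsGeneralizedCharacter P fun u => if u ∈ R then (R.index : ℂ) else 0 := by
  haveI : R.Normal := ⟨fun n hn g => by rwa [hc g n, mul_inv_cancel_right]⟩
  convert Char.IsGeneralizedCharacter.indFun R (gen_const (P := R) 1) using 1
  funext u
  split_ifs with hu
  · rw [show Cfsg.indFun R _ u = Cfsg.indFun R _ ((⟨u, hu⟩ : R) : P) from rfl,
      Char.indFun_apply_of_normal]
    simp only [Int.cast_one, Finset.sum_const, Finset.card_univ, nsmul_eq_mul, mul_one,
      ← Nat.card_eq_fintype_card]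
    rw [← R.card_mul_index, Nat.cast_mul, inv_mul_cancel_left₀ (Nat.cast_ne_zero.2 Nat.card_pos.ne')]
  · exact (Char.indFun_eq_zero_of_normal R _ hu).symm

/-- The signs can be chosen coherently on all nontrivial subgroups. -/
theorem RankSystem.exists_signs (hf : RankSystem p f) (hM : IsPModular p M) (hp : IsPGroup p P)
    (hc : ∀ a b : P, a * b = b * a) (n : ℕ) :
    ∃ φ : Subgroup P → ℤ, (∀ R, φ R ^ 2 = f R ^ 2) ∧
      ∀ R : Subgroup P, R ≠ ⊥ → R.index ≤ n →
        IsGeneralizedCharacter P fun u => (φ (R ⊔ Subgroup.zpowers u) : ℂ) := by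
  induction n with
  | zero => exact ⟨f, fun _ => rfl, fun R _ hR => absurd hR (by
      have := R.index_ne_zero_of_finite; omega)⟩
  | succ n ih =>
    obtain ⟨φ, hφ, hgen⟩ := ih
    have hup : ∀ R : Subgroup P, R ≠ ⊥ → R.index = n + 1 → ∀ L, R < L →
        IsGeneralizedCharacter P fun u => (φ (L ⊔ Subgroup.zpowers u) : ℂ) := fun R hR hi L hL =>
      hgen L (fun h => hR (le_bot_iff.1 (h ▸ hL.le))) (by
        have := Subgroup.index_strictAnti hL; omega)
    have hchoice : ∀ R : Subgroup P, R ≠ ⊥ → R.index = n + 1 →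
        ∃ y : ℤ, y ^ 2 = f R ^ 2 ∧ IsGeneralizedCharacter P fun u =>
          ((if u ∈ R then y else φ (R ⊔ Subgroup.zpowers u) : ℤ) : ℂ) := by
      intro R hR hi
      by_cases htop : R = ⊤
      · refine ⟨f R, rfl, ?_⟩
        subst htop
        simpa using gen_const (P := P) (f ⊤)
      have hG' := gen_altSum (hup R hR hi)
      set x := altSum R φ 1 with hxdef
      have hval : ∀ u, altSum R φ u = if u ∈ R then x else φ (R ⊔ Subgroup.zpowers u) := fun u => by
        split_ifs with hu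
        · exact altSum_of_mem φ hu
        · exact altSum_eq φ hu
      have hfR := hf.not_dvd hM hp R hR
      obtain ⟨v, hv⟩ : ∃ v, v ∉ R := not_forall.1 fun h => htop ((Subgroup.eq_top_iff' R).2 h)
      have hx : ¬ (p : ℤ) ∣ x := by
        intro hd
        have h1 : (p : ℤ) ∣ φ (R ⊔ Subgroup.zpowers v) - x :=
          dvd_sub_of_gen hM hp hG' (u := v) (by rw [hval, if_neg hv]) (by rw [hxdef])
        have h2 : (p : ℤ) ∣ φ (R ⊔ Subgroup.zpowers v) := by simpa using dvd_add h1 hd
        refine hf.not_dvd hM hp (R ⊔ Subgroup.zpowers v)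
          (fun h => hR (le_bot_iff.1 (le_sup_left.trans h.le))) ?_
        refine (Nat.prime_iff_prime_int.1 hM.1).dvd_of_dvd_pow (n := 2) ?_
        rw [← hφ]
        exact h2.pow (by norm_num)
      obtain ⟨G, hG, hGu⟩ := hf.loc R hR
      obtain ⟨y1, hy1, hy1'⟩ : ∃ y1 : ℤ, G 1 = y1 ∧ y1 ^ 2 = f R ^ 2 := by
        obtain ⟨z, -, hexp, -⟩ := Char.IsGeneralizedCharacter.exists_coeff hG
        have h1 : G 1 = ((∑ φ, z φ : ℤ) : ℂ) := by
          rw [hexp, Int.cast_sum, Finset.sum_apply]
          exact Finset.sum_congr rfl fun φ _ => by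
            rw [Pi.smul_apply, lin_one hc, smul_eq_mul, mul_one]
        refine ⟨_, h1, ?_⟩
        have h2 := hGu 1
        rw [h1, map_intCast, sup_zpowers_of_mem R.one_mem, ← sq] at h2
        exact_mod_cast h2
      obtain ⟨N1, hN1, hN1'⟩ := norm_parity hc hG hy1
      obtain ⟨N2, hN2, hN2'⟩ := norm_parity hc hG' (y := x) rfl
      have hD : f R * f R - x * x = (R.index : ℤ) * (N1 - N2) := by
        have h1 : ∑ u : P, (G u * conj (G u) - (altSum R φ u : ℂ) * conj (altSum R φ u : ℂ))
            = (Nat.card R : ℂ) * ((f R * f R - x * x : ℤ) : ℂ) := by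
          rw [Finset.sum_congr rfl (g := fun u => if u ∈ R then ((f R * f R - x * x : ℤ) : ℂ) else 0)
            fun u _ => by
              rw [hGu, map_intCast, hval]
              split_ifs with hu
              · rw [sup_zpowers_of_mem hu]; push_cast; ring
              · have := congrArg (fun z : ℤ => (z : ℂ)) (hφ (R ⊔ Subgroup.zpowers u))
                push_cast at this
                linear_combination -this,
            ← Finset.sum_filter, Finset.sum_const, nsmul_eq_mul, Nat.card_eq_fintype_card,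
            Fintype.card_subtype]
        rw [Finset.sum_sub_distrib, hN1, hN2, ← R.card_mul_index, Nat.cast_mul] at h1
        apply Int.cast_injective (α := ℂ)
        refine mul_left_cancel₀ (Nat.cast_ne_zero.2 (Nat.card_pos (α := R)).ne') ?_
        rw [← h1]
        push_cast
        ring
      obtain ⟨k, hk⟩ : ∃ k, R.index = p ^ k := by
        haveI := Fact.mk hM.1
        exact hp.index R
      rw [hk, Nat.cast_pow] at hD
      obtain ⟨y, hy, hdvd⟩ := exists_sign_of_dvd hM.1 hfR hx hD fun h2 => by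
        subst h2
        have e1 : (2 : ℤ) ∣ y1 - x := by
          rcases sq_eq_sq_iff_eq_or_eq_neg.1 hy1' with h | h
          · obtain ⟨a, ha⟩ : Odd (f R) := Int.not_even_iff_odd.1 fun h' => hfR (by exact_mod_cast h'.two_dvd)
            obtain ⟨b, hb⟩ : Odd x := Int.not_even_iff_odd.1 fun h' => hx (by exact_mod_cast h'.two_dvd)
            exact ⟨a - b, by rw [h, ha, hb]; ring⟩
          · obtain ⟨a, ha⟩ : Odd (f R) := Int.not_even_iff_odd.1 fun h' => hfR (by exact_mod_cast h'.two_dvd)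
            obtain ⟨b, hb⟩ : Odd x := Int.not_even_iff_odd.1 fun h' => hx (by exact_mod_cast h'.two_dvd)
            exact ⟨-a - b - 1, by rw [h, ha, hb]; ring⟩
        omega
      obtain ⟨c, hc'⟩ := hdvd
      refine ⟨y, hy, ?_⟩
      convert gen_add hG' (gen_mul (gen_const (-c)) (gen_indicator hc R)) using 2 with u
      rw [hval]
      split_ifs with hu
      · rw [hk]
        push_cast
        have := congrArg (fun z : ℤ => (z : ℂ)) hc'
        push_cast at this
        linear_combination -this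
      · push_cast; ring
    choose y hy hygen using hchoice
    let φ' : Subgroup P → ℤ := fun R =>
      if h : R ≠ ⊥ ∧ R.index = n + 1 then y R h.1 h.2 else φ R
    refine ⟨φ', fun R => ?_, fun R hR hi => ?_⟩
    · by_cases h : R ≠ ⊥ ∧ R.index = n + 1
      · simp only [φ', dif_pos h, hy]
      · simp only [φ', dif_neg h, hφ]
    · have hsame : ∀ L : Subgroup P, L.index ≤ n → φ' L = φ L := fun L hL =>
        dif_neg fun h => by have := h.2; omega
      rcases Nat.lt_or_eq_of_le hi with hlt | heq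
      · convert hgen R hR (by omega) using 2 with u
        rw [hsame _ ((Nat.le_of_dvd (Nat.pos_of_ne_zero R.index_ne_zero_of_finite)
          (Subgroup.index_dvd_of_le le_sup_left)).trans (by omega))]
      · convert hygen R hR heq using 2 with u
        split_ifs with hu
        · rw [sup_zpowers_of_mem hu]
          simp only [φ', dif_pos (show R ≠ ⊥ ∧ R.index = n + 1 from ⟨hR, heq⟩)]
        · rw [hsame]
          have := Subgroup.index_strictAnti (lt_sup_zpowers hu)
          omega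

/-- A generalized character of the whole group equal to the ranks up to sign. -/
theorem RankSystem.exists_gen (hf : RankSystem p f) (hM : IsPModular p M) (hp : IsPGroup p P)
    (hc : ∀ a b : P, a * b = b * a) (hP : Nontrivial P) :
    ∃ g : P → ℤ, IsGeneralizedCharacter P (fun u => (g u : ℂ)) ∧ (∀ u, ¬ (p : ℤ) ∣ g u) ∧
      ∀ u, u ≠ 1 → g u ^ 2 = f (Subgroup.zpowers u) ^ 2 := by
  obtain ⟨φ, hφ, hgen⟩ := hf.exists_signs hM hp hc (Nat.card P)
  have hG' := gen_altSum (R := (⊥ : Subgroup P)) (φ := φ) fun L hL =>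
    hgen L (ne_of_gt hL) (Nat.le_of_dvd Nat.card_pos (Subgroup.index_dvd_card L))
  have hne : ∀ u : P, u ≠ 1 → altSum ⊥ φ u = φ (Subgroup.zpowers u) := fun u hu => by
    rw [altSum_eq φ (fun h => hu (Subgroup.mem_bot.1 h)), bot_sup_eq]
  have hnd : ∀ u : P, u ≠ 1 → ¬ (p : ℤ) ∣ altSum ⊥ φ u := fun u hu hd => by
    rw [hne u hu] at hd
    refine hf.not_dvd hM hp (Subgroup.zpowers u) (fun h => hu (Subgroup.zpowers_eq_bot.1 h)) ?_
    refine (Nat.prime_iff_prime_int.1 hM.1).dvd_of_dvd_pow (n := 2) ?_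
    rw [← hφ]
    exact hd.pow (by norm_num)
  refine ⟨altSum ⊥ φ, hG', fun u => ?_, fun u hu => by rw [hne u hu, hφ]⟩
  by_cases hu : u = 1
  · subst hu
    obtain ⟨v, hv⟩ := exists_ne (1 : P)
    exact fun hd => hnd v hv (by simpa using dvd_add (dvd_sub_of_gen hM hp hG' (u := v) rfl rfl) hd)
  · exact hnd u hu

/-- The multiplier realising invariant signs. -/
theorem RankSystem.exists_phi (hf : RankSystem p f) (hM : IsPModular p M) (hp : IsPGroup p P)
    (hc : ∀ a b : P, a * b = b * a) (hP : Nontrivial P) (A : Subgroup (MulAut P))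
    (hA : ∀ α ∈ A, ∀ u : P, u ≠ 1 → f (Subgroup.zpowers (α u)) = f (Subgroup.zpowers u))
    (hAodd : p = 2 → Odd (Nat.card A)) :
    ∃ (Φ : P → ℂ) (M0 : ℤ) (ε : P → ℤ), IsGeneralizedCharacter P Φ ∧ ¬ (p : ℤ) ∣ M0 ∧
      (∀ u, ε u = 1 ∨ ε u = -1) ∧ (∀ α ∈ A, ∀ u, ε (α u) = ε u) ∧
      ∀ u, u ≠ 1 → Φ u * (f (Subgroup.zpowers u) : ℂ) = (M0 : ℂ) * ε u := by
  obtain ⟨g, hg, hgp, hgf⟩ := hf.exists_gen hM hp hc hP
  obtain ⟨R, M0, hR, hM0, hgR⟩ := exists_inverse hM.1 g hg hgp
  let s : P → ℤ := fun u => if g u = f (Subgroup.zpowers u) then 1 else -1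
  have hs : ∀ u, s u = 1 ∨ s u = -1 := fun u => by
    simp only [s]; split_ifs <;> simp
  have hsg : ∀ u, u ≠ 1 → g u = s u * f (Subgroup.zpowers u) := fun u hu => by
    simp only [s]
    split_ifs with h
    · rw [one_mul, h]
    · rw [(sq_eq_sq_iff_eq_or_eq_neg.1 (hgf u hu)).resolve_left h, neg_one_mul]
  have hf0 : ∀ u, u ≠ 1 → f (Subgroup.zpowers u) ≠ 0 := fun u hu h => hgp u (by
    rw [hsg u hu, h, mul_zero]; exact dvd_zero _)
  have hss : ∀ u, (s u : ℂ) * (s u : ℂ) = 1 := fun u => by rcases hs u with h | h <;> simp [h]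
  have hRf : ∀ u, u ≠ 1 → R u * (f (Subgroup.zpowers u) : ℂ) = (M0 : ℂ) * s u := fun u hu => by
    have h := hgR u
    rw [hsg u hu] at h
    push_cast at h
    linear_combination (s u : ℂ) * h - R u * (f (Subgroup.zpowers u) : ℂ) * hss u
  have hmap : ∀ α : MulAut P, ∀ u : P, u ≠ 1 → α u ≠ 1 := fun α u hu h =>
    hu (α.injective (h.trans (map_one α).symm))
  by_cases hp2 : p = 2
  · have hodd := hAodd hp2
    refine ⟨fun u => R u * ∏ α : A, (g (α.1 u) : ℂ) * R u, M0 ^ (Nat.card A + 1),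
      fun u => ∏ α : A, s (α.1 u), gen_mul hR (gen_finset_prod _ _ fun α _ =>
        gen_mul (gen_comp hg α.1.toMonoidHom) hR),
      fun h => hM0 ((Nat.prime_iff_prime_int.1 hM.1).dvd_of_dvd_pow h), fun u => ?_, fun β hβ u => ?_,
      fun u hu => ?_⟩
    · exact Finset.prod_induction _ (fun x => x = 1 ∨ x = -1)
        (by rintro a b (rfl | rfl) (rfl | rfl) <;> simp) (Or.inl rfl) fun α _ => hs _
    · exact Fintype.prod_equiv (Equiv.mulRight (⟨β, hβ⟩ : A)) _ _ fun α => rfl
    · have hterm : ∀ α : A, (g (α.1 u) : ℂ) * R u = (M0 : ℂ) * (s (α.1 u) : ℂ) * (s u : ℂ) := fun α => by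
        rw [hsg _ (hmap α.1 u hu), hA α.1 α.2 u hu]
        push_cast
        linear_combination (s (α.1 u) : ℂ) * hRf u hu
      simp only [hterm, Finset.prod_mul_distrib, Finset.prod_const, Finset.card_univ,
        Fintype.card_eq_nat_card]
      push_cast
      have hsk : (s u : ℂ) ^ (Nat.card A + 1) = 1 := by
        obtain ⟨j, hj⟩ := hodd.add_one
        rw [hj, ← two_mul, pow_mul, sq, hss, one_pow]
      rw [pow_succ] at hsk ⊢
      linear_combination ((M0 : ℂ) ^ Nat.card A * ∏ α : A, (s (α.1 u) : ℂ)) * (s u : ℂ) ^ Nat.card A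
        * hRf u hu + (M0 : ℂ) ^ Nat.card A * M0 * (∏ α : A, (s (α.1 u) : ℂ)) * hsk
  · refine ⟨R, M0, fun u => if u = 1 then 1 else s u, hR, hM0, fun u => ?_, fun α hα u => ?_,
      fun u hu => by simp only [if_neg hu]; exact hRf u hu⟩
    · dsimp only
      split_ifs
      · exact Or.inl rfl
      · exact hs u
    · by_cases hu : u = 1
      · simp [hu]
      dsimp only
      rw [if_neg hu, if_neg (hmap α u hu)]
      have h1 : (p : ℤ) ∣ g u - g (α u) := by
        have e1 := dvd_sub_of_gen hM hp hg (u := u) (x := g u) (y := g 1) rfl rfl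
        have e2 := dvd_sub_of_gen hM hp hg (u := α u) (x := g (α u)) (y := g 1) rfl rfl
        simpa using dvd_sub e1 e2
      rw [hsg u hu, hsg _ (hmap α u hu), hA α hα u hu, ← sub_mul] at h1
      have hnf : ¬ (p : ℤ) ∣ f (Subgroup.zpowers u) := fun h => hgp u (by
        rw [hsg u hu]; exact h.mul_left _)
      have h2 := ((Nat.prime_iff_prime_int.1 hM.1).dvd_or_dvd h1).resolve_right hnf
      by_contra hne
      refine hp2 ((Nat.prime_dvd_prime_iff_eq hM.1 Nat.prime_two).1 ?_)
      rcases hs u with h | h <;> rcases hs (α u) with h' | h' <;>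
        first
        | exact absurd (h'.trans h.symm) hne
        | (rw [h, h'] at h2; exact Int.natCast_dvd_natCast.1 (by simpa using h2))

end CfsgLib.Blocks.FreeAbelianCounts
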