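import Cfsg.Agent.Lib.Blocks.FreeAbelianCounts.Source
import Cfsg.Agent.Lib.Blocks.FreeAbelianCounts.Sign

/-!
# The ranks of a source idempotent below the maximal pair

The ranks of the Brauer images of a source idempotent at the subgroups of the defect group form a
rank system, and the values of the source idempotent at the elements of the defect group factor as
generalized decomposition numbers times ranks.
-/

set_option autoImplicit false
set_option linter.unusedSectionVars false
set_option maxHeartbeats 1600000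

namespace CfsgLib.Blocks.FreeAbelianCounts

open Cfsg CfsgLib.Blocks CfsgLib.Blocks.ResidueAlgebra CfsgLib.Blocks.TwoCharacters
  CfsgLib.BrauerPairs CfsgLib.BrouePuig CfsgLib.Blocks.CyclicRank
open scoped Classical ComplexConjugate

universe u

variable {p : ℕ} {M : Ideal AlgInt} {hM : IsPModular p M} {G : Type u} [Group G] [Fintype G]
  {B : Set (IrrCharacter G)} {P : Subgroup G}
  {c : Set (IrrCharacter (Subgroup.centralizer (P : Set G)))}

theorem mapK_apply_coeff {K K' : Type u} [Group K] [Fintype K] [Group K'] [Fintype K']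
    (φ : K ≃* K') (z : KAlg hM K) (k : K) :
    (mapK hM φ.toMonoidHom z).coeff (φ k) = z.coeff k := by
  conv_lhs => rw [eq_sum_single z, map_sum, MonoidAlgebra.coeff_sum, Finsupp.finsetSum_apply]
  simp [mapK_single, Finsupp.single_apply]

theorem mapK_idem {K K' : Type u} [Group K] [Fintype K] [Group K'] [Fintype K'] (φ : K ≃* K')
    (e : Set (IrrCharacter K')) :
    mapK hM φ.toMonoidHom (idem hM (irrEquiv φ '' e)) = idem hM e := by
  refine ext_coeff fun g => ?_
  obtain ⟨k, rfl⟩ := φ.surjective g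
  rw [mapK_apply_coeff, coeff_idem, coeff_idem, blockCoeff_image]

theorem mapK_injective {K K' : Type u} [Group K] [Fintype K] [Group K'] [Fintype K']
    (φ : K ≃* K') : Function.Injective (mapK hM φ.toMonoidHom) := fun x y h => ext_coeff fun k => by
  rw [← mapK_apply_coeff φ x, ← mapK_apply_coeff φ y, h]

/-- The block below the maximal pair at a subgroup. -/
noncomputable def bb [Fact p.Prime] (hM : IsPModular p M) (hP : IsBrauerPair p M P c)
    {T : Subgroup G} (hT : T ≤ P) : Set (IrrCharacter (Subgroup.centralizer (T : Set G))) :=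
  (existsUnique_below hM hP hT).choose

theorem bb_below [Fact p.Prime] (hM : IsPModular p M) (hP : IsBrauerPair p M P c)
    {T : Subgroup G} (hT : T ≤ P) : SubpairLE p M T (bb hM hP hT) P c :=
  (existsUnique_below hM hP hT).choose_spec.1

/-- The truncated Brauer image. -/
noncomputable def locIdem (hM : IsPModular p M) (i : KAlg hM G) (T : Subgroup G) :
    KAlg hM (Subgroup.centralizer (T : Set G)) :=
  down hM _ (br T i)

theorem up_locIdem (i : KAlg hM G) (T : Subgroup G) :
    up hM _ (locIdem hM i T) = br T i := up_down_br T i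

/-- The rank of the Brauer image. -/
noncomputable def rk [Fact p.Prime] (hM : IsPModular p M) (hP : IsBrauerPair p M P c)
    (i : KAlg hM G) (T : Subgroup G) : ℕ :=
  if h : ∃ n : ℕ, ∀ (hT : T ≤ P), ∀ ψ ∈ bb hM hP hT, tau hM ψ 1 (locIdem hM i T) = (n : ℂ)
  then h.choose else 0

variable [Fact p.Prime]

/-- The blocks below the maximal pair at nontrivial subgroups have one Brauer character. -/
theorem below_data (hM : IsPModular p M) (hmax : IsMaximalBrauerPair p M B P c)
    (hab : ∀ x ∈ P, ∀ y ∈ P, x * y = y * x) (hfree : FreeAct P c) {T : Subgroup G} (hT : T ≤ P)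
    (hT1 : T ≠ ⊥) :
    IsNilpotentBlock p M (bb hM hmax.1.1 hT) ∧
    (∀ ψ ∈ bb hM hmax.1.1 hT, ∀ ψ' ∈ bb hM hmax.1.1 hT,
      ∀ x : Subgroup.centralizer (T : Set G), ¬ p ∣ orderOf x →
      (ψ : Subgroup.centralizer (T : Set G) → ℂ) x
        = (ψ' : Subgroup.centralizer (T : Set G) → ℂ) x) ∧
    ∀ ψ ∈ bb hM hmax.1.1 hT,
      (Nat.card P : ℂ) * ∑ x : Subgroup.centralizer (T : Set G) with IsPRegular p x,
        (ψ : Subgroup.centralizer (T : Set G) → ℂ) x
          * conj ((ψ : Subgroup.centralizer (T : Set G) → ℂ) x)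
        = (Nat.card (Subgroup.centralizer (T : Set G)) : ℂ) := by
  obtain ⟨w, hw, hw1⟩ : ∃ w ∈ T, w ≠ (1 : G) := by
    by_contra h
    push Not at h
    exact hT1 (eq_bot_iff.2 fun x hx => Subgroup.mem_bot.2 (h x hx))
  have hin := below_inducedIn hM hmax.1.1 hab hT (bb_below hM hmax.1.1 hT)
  have hnest := maximal_nested hM hmax hab hT hin
  have hnil : IsNilpotentBlock p M (bb hM hmax.1.1 hT) :=
    (nilpotent_nested_iff hM hmax hab hT hin).2 fun g hg hgT => hfree g hg w (hT hw) hw1 (by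
      rw [← Subgroup.mem_centralizer_iff.1 hgT w hw, mul_inv_cancel_right])
  obtain ⟨χ₀, hreg, hnorm⟩ := nilpotent_regular hM hnil hnest
    (fun x hx y hy => Subtype.ext (hab _ hx _ hy))
  refine ⟨hnil, fun ψ hψ ψ' hψ' x hx => by rw [hreg ψ hψ x hx, hreg ψ' hψ' x hx], fun ψ hψ => ?_⟩
  rw [← hnorm, Nat.card_congr (Subgroup.subgroupOfEquivOfLe (le_centralizer_of_abelian hab hT)).toEquiv]
  congr 1
  exact Finset.sum_congr rfl fun x hx => by rw [hreg ψ hψ x (Finset.mem_filter.1 hx).2]

variable {i : KAlg hM G}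

theorem locIdem_idem (hP : IsPGroup p P) (hi : PrimOn (P : Set G) i) {T : Subgroup G} (hT : T ≤ P) :
    IsIdempotentElem (locIdem hM i T) :=
  isIdempotent_of_up (up_locIdem i T)
    (br_idempotent (hP.to_le hT) (fun s hs => hi.fix s (hT hs)) hi.idem)

theorem locIdem_block (hmax : IsMaximalBrauerPair p M B P c) (hi : IsSource hM P c i)
    {T : Subgroup G} (hT : T ≤ P) :
    locIdem hM i T * idem hM (bb hM hmax.1.1 hT) = locIdem hM i T := by
  have hiS : PrimOn ((P : Set G) ∪ ∅) i := by rw [Set.union_empty]; exact hi.prim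
  refine up_injective hM _ ?_
  rw [map_mul, up_idem, up_locIdem]
  exact hiS.br_mul_iota_below hmax.1.1.1 (Set.empty_subset _) hi.ne hmax.1.1.2 hi.mem
    (bb_below hM hmax.1.1 hT)

theorem rk_spec (hmax : IsMaximalBrauerPair p M B P c) (hab : ∀ x ∈ P, ∀ y ∈ P, x * y = y * x)
    (hfree : FreeAct P c) (hi : IsSource hM P c i) {T : Subgroup G} (hT : T ≤ P) (hT1 : T ≠ ⊥)
    {ψ : IrrCharacter (Subgroup.centralizer (T : Set G))} (hψ : ψ ∈ bb hM hmax.1.1 hT) :
    tau hM ψ 1 (locIdem hM i T) = (rk hM hmax.1.1 i T : ℂ) := by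
  have hε := locIdem_idem hmax.1.1.1 hi.prim hT
  have h : ∃ n : ℕ, ∀ (hT : T ≤ P), ∀ ψ ∈ bb hM hmax.1.1 hT,
      tau hM ψ 1 (locIdem hM i T) = (n : ℂ) := by
    obtain ⟨n, hn⟩ := tau_one_nat ψ hε
    exact ⟨n, fun _ ψ' hψ' => (tau_one_congr
      ((below_data hM hmax hab hfree hT hT1).2.1 ψ' hψ' ψ hψ) hε).trans hn⟩
  rw [rk, dif_pos h]
  exact h.choose_spec hT ψ hψ

/-- At the defect group the rank is prime to `p`. -/
theorem rk_top (hmax : IsMaximalBrauerPair p M B P c) (hab : ∀ x ∈ P, ∀ y ∈ P, x * y = y * x)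
    (hfree : FreeAct P c) (hP1 : P ≠ ⊥) (hi : IsSource hM P c i) :
    ¬ p ∣ rk hM hmax.1.1 i P := by
  intro hd
  obtain ⟨ψ, hψ⟩ := IsPBlock.nonempty hM hmax.1.1.2
  have hc : bb hM hmax.1.1 (le_refl P) = c :=
    (existsUnique_below hM hmax.1.1 le_rfl).unique (bb_below hM hmax.1.1 le_rfl) .refl
  refine hi.unit ψ hψ ?_
  rw [show down hM _ (br P i) = locIdem hM i P from rfl,
    rk_spec hmax hab hfree hi le_rfl hP1 (hc.symm ▸ hψ)]
  exact resid_eq_zero hM ((LI.natCast_iff hM _).2 hd)

theorem secInner_eq_dlt {K : Type u} [Group K] [Fintype K] (χ χ' : IrrCharacter K) {a : BElem K}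
    {ψ₀ : IrrCharacter (cenZ a.1)} (hreg : ∀ ψ ∈ a.2, ∀ x : cenZ a.1, ¬ p ∣ orderOf x →
      (ψ : cenZ a.1 → ℂ) x = (ψ₀ : cenZ a.1 → ℂ) x) :
    secInner p χ χ' a = dlt χ a * conj (dlt χ' a) *
      ∑ x : cenZ a.1 with IsPRegular p x,
        (ψ₀ : cenZ a.1 → ℂ) x * conj ((ψ₀ : cenZ a.1 → ℂ) x) := by
  rw [secInner, Finset.mul_sum]
  refine Finset.sum_congr rfl fun x hx => ?_
  rw [secPart_eq_dlt (ψ₀ := ψ₀) χ hreg (Finset.mem_filter.1 hx).2,
    secPart_eq_dlt (ψ₀ := ψ₀) χ' hreg (Finset.mem_filter.1 hx).2, map_mul]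
  ring

/-- Above a nontrivial subgroup the squared ranks are the squared absolute values of a
generalized character. -/
theorem exists_local_char (hmax : IsMaximalBrauerPair p M B P c)
    (hab : ∀ x ∈ P, ∀ y ∈ P, x * y = y * x) (hfree : FreeAct P c) (hi : IsSource hM P c i)
    {R : Subgroup G} (hR : R ≤ P) (hR1 : R ≠ ⊥) :
    ∃ Γ : P → ℂ, IsGeneralizedCharacter P Γ ∧
      ∀ u : P, Γ u * conj (Γ u) = (rk hM hmax.1.1 i (R ⊔ Subgroup.zpowers (u : G)) : ℂ) ^ 2 := by
  have hP := hmax.1.1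
  have hPH : P ≤ Subgroup.centralizer (R : Set G) := le_centralizer_of_abelian hab hR
  have hin := below_inducedIn hM hP hab hR (bb_below hM hP hR)
  have hnest := maximal_nested hM hmax hab hR hin
  obtain ⟨hnilR, -, -⟩ := below_data hM hmax hab hfree hR hR1
  obtain ⟨ψ, hψ, h0⟩ := exists_degVal_eq_min (p := p) (IsPBlock.nonempty hM hnest.1.2.1)
  set εR := locIdem hM i R with hεR
  have hεRi : IsIdempotentElem εR := locIdem_idem hP.1 hi.prim hR
  have hfixR : FixBy (P.subgroupOf (Subgroup.centralizer (R : Set G)) : Set _) εR := by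
    intro s hs
    refine (commute_single_iff s εR).2 fun g => ?_
    have hsP : (s : G) ∈ P := Subgroup.mem_subgroupOf.1 hs
    have h1 : Commute (MonoidAlgebra.single (s : G) 1) (br R i) :=
      commute_br (Subgroup.centralizer_le_normalizer _ s.2) (hi.prim.fix _ hsP)
    rw [hεR, locIdem, coeff_down, coeff_down, Subgroup.coe_mul, Subgroup.coe_mul, Subgroup.coe_inv]
    exact (commute_single_iff (s : G) _).1 h1 (g : G)
  refine ⟨fun u => tau hM ψ ⟨(u : G), hPH u.2⟩ εR,
    gen_comp (Char.IsCharacter.isGeneralizedCharacter (isCharacter_tau ψ hεRi _ hfixR))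
      (Subgroup.subgroupOfEquivOfLe hPH).symm.toMonoidHom, fun u => ?_⟩
  -- the two centralizers
  set T := R ⊔ Subgroup.zpowers (u : G) with hTdef
  have hT : T ≤ P := sup_le hR (Subgroup.zpowers_le.2 u.2)
  have hT1 : T ≠ ⊥ := fun h => hR1 (le_bot_iff.1 ((le_sup_left : R ≤ T).trans h.le))
  let u' : Subgroup.centralizer (R : Set G) := ⟨(u : G), hPH u.2⟩
  let w : P.subgroupOf (Subgroup.centralizer (R : Set G)) := ⟨u', Subgroup.mem_subgroupOf.2 u.2⟩
  have hTH : Subgroup.centralizer (T : Set G) ≤ Subgroup.centralizer (R : Set G) :=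
    Subgroup.centralizer_le (le_sup_left : R ≤ T)
  have hiffT : ∀ a : Subgroup.centralizer (R : Set G),
      (a : G) ∈ Subgroup.centralizer (T : Set G) ↔ a ∈ cenZ u' := by
    intro a
    rw [cenZ_eq, Subgroup.mem_centralizer_singleton_iff]
    constructor
    · intro h
      exact Subtype.ext (Subgroup.mem_centralizer_iff.1 h (u : G)
        (Subgroup.mem_sup_right (Subgroup.mem_zpowers _))).symm
    · intro h
      have h' : (a : G) * (u : G) = (u : G) * (a : G) := congrArg Subtype.val h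
      have hle : T ≤ Subgroup.centralizer ({(a : G)} : Set G) := by
        refine sup_le (fun r hr => ?_) (Subgroup.zpowers_le.2 ?_)
        · rw [Subgroup.mem_centralizer_singleton_iff]
          exact Subgroup.mem_centralizer_iff.1 a.2 r hr
        · rw [Subgroup.mem_centralizer_singleton_iff]
          exact h'.symm
      exact Subgroup.mem_centralizer_iff.2 fun r hr =>
        Subgroup.mem_centralizer_singleton_iff.1 (hle hr)
  set φ := nestIso hTH hiffT with hφdef
  set eK := irrEquiv φ '' bb hM hP hT with heKdef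
  set ψ₁ := nestIso (BrouePuig.centralizer_le_centralizer hR)
    (fun x => (mem_centralizer_subgroupOf_iff hPH x).symm)
  have hg : IsInducedBlockIn M (Subgroup.centralizer (T : Set G)) (Subgroup.centralizer (P : Set G)) c
      (bb hM hP hT) := below_inducedIn hM hP hab hT (bb_below hM hP hT)
  have hab' : ∀ x ∈ P.subgroupOf (Subgroup.centralizer (R : Set G)),
      ∀ y ∈ P.subgroupOf (Subgroup.centralizer (R : Set G)), x * y = y * x :=
    fun x hx y hy => Subtype.ext (hab _ hx _ hy)
  have hin' : IsInducedBlockIn M (cenZ u')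
      (Subgroup.centralizer (P.subgroupOf (Subgroup.centralizer (R : Set G)) : Set _))
      (irrEquiv ψ₁ '' c) eK := by
    refine ⟨isPBlock_image _ hg.1, isPBlock_image _ hg.2.1, ?_⟩
    rintro _ ⟨ξ, hξ, rfl⟩ _ ⟨χ, hχ, rfl⟩ n
    rw [show centralChar ((irrEquiv φ χ : IrrCharacter (cenZ u')) : cenZ u' → ℂ) n
      = centralChar (χ : Subgroup.centralizer (T : Set G) → ℂ) (φ n) from centralChar_irrEquiv φ _ n]
    have e : inducedCentralCharIn (cenZ u')
          (Subgroup.centralizer (P.subgroupOf (Subgroup.centralizer (R : Set G)) : Set _))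
          ((irrEquiv ψ₁ ξ : IrrCharacter _) : _ → ℂ) (n : Subgroup.centralizer (R : Set G))
        = inducedCentralCharIn (Subgroup.centralizer (T : Set G)) (Subgroup.centralizer (P : Set G))
            (ξ : Subgroup.centralizer (P : Set G) → ℂ) (φ n : G) := by
      rw [inducedCentralCharIn, inducedCentralCharIn]
      refine finsum_mem_eq_of_bijOn ψ₁ ⟨?_, ψ₁.injective.injOn, ?_⟩ fun k _ => ?_
      · rintro k ⟨a, ha⟩
        exact ⟨φ a, congrArg Subtype.val ha⟩
      · rintro k ⟨a, ha⟩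
        refine ⟨ψ₁.symm k, ⟨φ.symm a, Subtype.ext ?_⟩, ψ₁.apply_symm_apply k⟩
        exact ha
      · rw [irrEquiv_apply, irrEquiv_apply, map_one]
    rw [e]
    exact hg.2.2 ξ hξ χ hχ _
  have heK : eK = (bel hM hnest.1.1 w).2 :=
    inducedIn_unique hM (H := cenZ u')
      (fun a ha => (hiffT a).1 (BrouePuig.centralizer_le_centralizer hT
        ((mem_centralizer_subgroupOf_iff hPH a).1 ha)))
      hin' (bel_inducedIn hM hnest.1.1 hab' w)
  set a : BElem (Subgroup.centralizer (R : Set G)) := bel hM hnest.1.1 w with hadef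
  have hel := isElemOf_of_below hM hnest (bel_below hM hnest.1.1 w)
  obtain ⟨χT, hχT⟩ := IsPBlock.nonempty hM hg.2.1
  obtain ⟨-, hagree, hnorm⟩ := below_data hM hmax hab hfree hT hT1
  -- the members of the nested block
  have hreg : ∀ θ ∈ eK, ∀ x : cenZ u', ¬ p ∣ orderOf x →
      (θ : cenZ u' → ℂ) x = (irrEquiv φ χT : cenZ u' → ℂ) x := by
    rintro _ ⟨θ, hθ, rfl⟩ x hx
    rw [irrEquiv_apply, irrEquiv_apply]
    exact hagree θ hθ χT hχT (φ x) (by rwa [φ.orderOf_eq])
  have hreg' : ∀ θ ∈ a.2, ∀ x : cenZ a.1, ¬ p ∣ orderOf x →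
      (θ : cenZ a.1 → ℂ) x = (irrEquiv φ χT : cenZ u' → ℂ) x := fun θ hθ x hx =>
    hreg θ (heK.symm ▸ hθ) x hx
  set ε' := down hM (cenZ u') (br (Subgroup.zpowers u') εR) with hε'def
  have hmapε : mapK hM φ.toMonoidHom ε' = locIdem hM i T := by
    refine ext_coeff fun g => ?_
    obtain ⟨k, rfl⟩ := φ.surjective g
    have hkR : ((k : Subgroup.centralizer (R : Set G)) : G) ∈ Subgroup.centralizer (R : Set G) :=
      (k : Subgroup.centralizer (R : Set G)).2
    rw [mapK_apply_coeff, hε'def, coeff_down, coeff_br, if_pos k.2, hεR, locIdem, locIdem,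
      coeff_down, coeff_down, coeff_br, coeff_br, if_pos hkR, if_pos (φ k).2]
    rfl
  have hεb : ε' * idem hM eK = ε' := mapK_injective φ (by
    rw [map_mul, hmapε, heKdef, mapK_idem]
    exact locIdem_block hmax hi hT)
  have hu : Commute (MonoidAlgebra.single u' 1) εR := hfixR u' (Subgroup.mem_subgroupOf.2 u.2)
  have hsec := tau_section (hM := hM) (ψ) (a := a) (ψ₀ := irrEquiv φ χT)
    (mem_elems.1 (hel.mem hM.1)).1 hel.1.2 hreg' hεRi hu (ε' := ε')
    (up_down fun g hg => br_apply_notMem _ εR hg) (by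
      have h' := hεb
      rw [heK] at h'
      exact h')
  have hfval : tau hM (irrEquiv φ χT) 1 ε' = (rk hM hP i T : ℂ) := by
    have he' : IsIdempotentElem ε' := mapK_injective φ (by
      rw [map_mul, hmapε, (locIdem_idem hP.1 hi.prim hT).eq])
    rw [tau_irrEquiv φ χT he' (commute_one_single _), map_one, hmapε,
      rk_spec hmax hab hfree hi hT hT1 hχT]
  -- the absolute value of the multiplier
  have hδ : dlt ψ a * conj (dlt ψ a) = 1 := by
    have h := ratio_mul_secInner_eq_one hM hnilR hnest hψ h0 w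
    set S : ℂ := ∑ x : cenZ u' with IsPRegular p x,
      (irrEquiv φ χT : cenZ u' → ℂ) x * conj ((irrEquiv φ χT : cenZ u' → ℂ) x) with hS
    have hinner : secInner p ψ ψ a = dlt ψ a * conj (dlt ψ a) * S :=
      secInner_eq_dlt ψ ψ hreg'
    have hSval : (Nat.card P : ℂ) * S = (Nat.card (cenZ u') : ℂ) := by
      rw [Nat.card_congr φ.toEquiv, ← hnorm χT hχT, hS]
      congr 1
      refine Finset.sum_equiv φ.toEquiv (fun x => ?_) fun x _ => ?_
      · rw [Finset.mem_filter, Finset.mem_filter]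
        simp [IsPRegular, φ.orderOf_eq]
      · rw [irrEquiv_apply]; rfl
    have hratio : ratio (P.subgroupOf (Subgroup.centralizer (R : Set G))) w
        = (Nat.card P : ℂ) * (Nat.card (cenZ u') : ℂ)⁻¹ := by
      rw [ratio, show Subgroup.centralizer ({w} : Set (P.subgroupOf _)) = ⊤ from
        eq_top_iff.2 fun x _ => by
          rw [Subgroup.mem_centralizer_singleton_iff]; exact Subtype.ext (hab' _ x.2 _ w.2),
        Subgroup.card_top, Nat.card_congr (Subgroup.subgroupOfEquivOfLe hPH).toEquiv, ← cenZ_eq]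
    rw [hinner, hratio] at h
    rw [← h, ← hSval]
    have hS0 : S ≠ 0 := fun h0' => by
      rw [h0', mul_zero] at hSval
      exact Char.card_ne_zero hSval.symm
    have hPne : (Nat.card P : ℂ) ≠ 0 := Char.card_ne_zero
    field_simp
  show tau hM ψ u' εR * conj (tau hM ψ u' εR) = _
  have hval : tau hM ψ u' εR = dlt ψ a * (rk hM hP i T : ℂ) :=
    hsec.trans (congrArg (dlt ψ a * ·) hfval)
  rw [hval, map_mul, map_natCast]
  linear_combination ((rk hM hP i T : ℂ) ^ 2) * hδ

/-- The rank system of a source idempotent. -/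
noncomputable def rankFn (hM : IsPModular p M) (hP : IsBrauerPair p M P c) (i : KAlg hM G)
    (R : Subgroup P) : ℤ :=
  (rk hM hP i (R.map P.subtype) : ℤ)

theorem rankFn_zpowers (hP : IsBrauerPair p M P c) (i : KAlg hM G) (u : P) :
    rankFn hM hP i (Subgroup.zpowers u) = (rk hM hP i (Subgroup.zpowers (u : G)) : ℤ) := by
  rw [rankFn, MonoidHom.map_zpowers]
  rfl

theorem rankSystem (hmax : IsMaximalBrauerPair p M B P c) (hab : ∀ x ∈ P, ∀ y ∈ P, x * y = y * x)
    (hfree : FreeAct P c) (hP1 : P ≠ ⊥) (hi : IsSource hM P c i) :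
    RankSystem p (rankFn hM hmax.1.1 i) := by
  refine ⟨fun R hR => ?_, fun hd => rk_top hmax hab hfree hP1 hi ?_⟩
  · obtain ⟨Γ, hΓ, hΓu⟩ := exists_local_char hmax hab hfree hi (Subgroup.map_subtype_le R)
      (fun h => hR ((Subgroup.map_eq_bot_iff_of_injective _ P.subtype_injective).1 h))
    refine ⟨Γ, hΓ, fun u => ?_⟩
    rw [hΓu u, rankFn, Subgroup.map_sup, MonoidHom.map_zpowers, Int.cast_natCast]
    rfl
  · rw [rankFn, ← MonoidHom.range_eq_map, Subgroup.range_subtype] at hd
    exact Int.natCast_dvd_natCast.1 hd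

/-- The values of the source idempotent at the nonidentity elements. -/
theorem tau_source (hmax : IsMaximalBrauerPair p M B P c) (hab : ∀ x ∈ P, ∀ y ∈ P, x * y = y * x)
    (hfree : FreeAct P c) (hi : IsSource hM P c i) (χ : IrrCharacter G) {u : P} (hu : u ≠ 1) :
    tau hM χ (u : G) i
      = dlt χ (bel hM hmax.1.1 u) * (rk hM hmax.1.1 i (Subgroup.zpowers (u : G)) : ℂ) := by
  have hT : Subgroup.zpowers (u : G) ≤ P := Subgroup.zpowers_le.2 u.2
  have hT1 : Subgroup.zpowers (u : G) ≠ ⊥ := fun h =>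
    hu (Subtype.ext (Subgroup.zpowers_eq_bot.1 h))
  have hel := isElemOf_of_below hM hmax (bel_below hM hmax.1.1 u)
  obtain ⟨ψ, hψ⟩ := IsPBlock.nonempty hM hel.1.2
  obtain ⟨-, hagree, -⟩ := below_data hM hmax hab hfree hT hT1
  refine (tau_section χ (a := bel hM hmax.1.1 u) (ψ₀ := ψ) (mem_elems.1 (hel.mem hM.1)).1
    hel.1.2 (fun θ hθ x hx => hagree θ hθ ψ hψ x hx) hi.prim.idem (hi.prim.fix _ u.2)
    (ε' := locIdem hM i (Subgroup.zpowers (u : G))) (up_locIdem i _)
    (locIdem_block hmax hi hT)).trans ?_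
  congr 1
  exact rk_spec hmax hab hfree hi hT hT1 hψ

/-- The values are characters of the defect group. -/
theorem isGen_tau_source (hi : IsSource hM P c i) (χ : IrrCharacter G) :
    IsGeneralizedCharacter P fun u : P => tau hM χ (u : G) i :=
  Char.IsCharacter.isGeneralizedCharacter (isCharacter_tau χ hi.prim.idem P hi.prim.fix)

/-- Conjugation by the stabilizer does not change the values. -/
theorem tau_source_conj (hmax : IsMaximalBrauerPair p M B P c)
    (hab : ∀ x ∈ P, ∀ y ∈ P, x * y = y * x) (hi : IsSource hM P c i) (χ : IrrCharacter G) {t : G}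
    (ht : t ∈ pairStab P c) {u : G} (hu : u ∈ P) :
    tau hM χ (t * u * t⁻¹) i = tau hM χ u i := by
  obtain ⟨P₀, Q₀, hP₀, hQ₀, hPQ, hQP⟩ := exists_equiv_cj hM hmax hab hi ht
  have htu : t * u * t⁻¹ ∈ P := (Subgroup.mem_normalizer_iff.1 ht.1 u).1 hu
  have hfix' : Commute (MonoidAlgebra.single (t * u * t⁻¹) 1) (cj t i) := by
    rw [← cj_single]; exact (hi.prim.fix u hu).map (cj t)
  rw [tau_equiv χ hi.prim.idem (hi.prim.idem.map (cj t)) (hi.prim.fix _ htu) hfix' (hP₀ _ htu)
      (hQ₀ _ htu) hPQ hQP, tau_cj χ t hi.prim.idem (hi.prim.fix u hu)]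

end CfsgLib.Blocks.FreeAbelianCounts
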