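import Cfsg.Agent.Lib.Blocks.CyclicRank
import Cfsg.Agent.Lib.Blocks.RegularVanish
import Cfsg.Agent.Lib.Blocks.SecondMainBlocks
import Cfsg.Agent.Lib.BrouePuig.Major

/-!
# The value at an idempotent: blocks, restriction and sections
-/

set_option autoImplicit false
set_option linter.unusedSectionVars false
set_option maxHeartbeats 800000

namespace CfsgLib.Blocks.FreeAbelianCounts

open Cfsg CfsgLib.Blocks CfsgLib.Blocks.ResidueAlgebra CfsgLib.Blocks.TwoCharacters
  CfsgLib.BrauerPairs CfsgLib.BrouePuig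
open scoped Classical

universe u v

variable {p : ℕ} {M : Ideal AlgInt} {hM : IsPModular p M}
  {G : Type u} [Group G] [Fintype G] {K : Type v} [Group K] [Fintype K]

/-- The map of residue algebras along a homomorphism. -/
noncomputable def mapK (hM : IsPModular p M) (φ : K →* G) : KAlg hM K →ₐ[Residue hM] KAlg hM G :=
  MonoidAlgebra.mapDomainAlgHom (Residue hM) (Residue hM) φ

theorem mapK_single (φ : K →* G) (k : K) (r : Residue hM) :
    mapK hM φ (MonoidAlgebra.single k r) = MonoidAlgebra.single (φ k) r := by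
  simp [mapK]

/-- The map of the algebras over the local ring along a homomorphism. -/
noncomputable def mapL (hM : IsPModular p M) (φ : K →* G) :
    LAlg hM K →ₐ[localSubring hM] LAlg hM G :=
  MonoidAlgebra.mapDomainAlgHom (localSubring hM) (localSubring hM) φ

theorem mapL_single (φ : K →* G) (k : K) (r : localSubring hM) :
    mapL hM φ (MonoidAlgebra.single k r) = MonoidAlgebra.single (φ k) r := by
  simp [mapL]

theorem red_mapL (φ : K →* G) (a : LAlg hM K) :
    red hM (mapL hM φ a) = mapK hM φ (red hM a) := by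
  rw [eq_sum_single a, map_sum, map_sum, map_sum, map_sum]
  refine Finset.sum_congr rfl fun k _ => ?_
  rw [mapL_single, red, red, MonoidAlgebra.mapRingHom_single, MonoidAlgebra.mapRingHom_single,
    mapK_single]

theorem val_mapL (φ : K →* G) (χ : IrrCharacter G) (x : G) (a : LAlg hM K) :
    val hM χ (MonoidAlgebra.single x 1 * mapL hM φ a)
      = ∑ k : K, ((a.coeff k : localSubring hM) : ℂ) * (χ : G → ℂ) (x * φ k) := by
  have hc : ∀ g, ((mapL hM φ a).coeff g : localSubring hM)
      = ∑ k : K, if φ k = g then a.coeff k else 0 := fun g => by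
    conv_lhs => rw [eq_sum_single a]
    rw [map_sum, MonoidAlgebra.coeff_sum, Finsupp.finsetSum_apply]
    simp [mapL_single, Finsupp.single_apply]
  rw [val_single_mul]
  simp only [hc, AddSubmonoidClass.coe_finsetSum, Finset.sum_mul]
  rw [Finset.sum_comm]
  refine Finset.sum_congr rfl fun k _ => ?_
  rw [Finset.sum_eq_single (φ k) (fun g _ hg => by rw [if_neg (Ne.symm hg)]; simp) (by simp), if_pos rfl]

/-- Restriction along a homomorphism. -/
theorem tau_mapK (φ : K →* G) (χ : IrrCharacter G) {g : K} {ε : KAlg hM K}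
    (he : IsIdempotentElem ε) (hg : Commute (MonoidAlgebra.single g 1) ε) :
    tau hM χ (φ g) (mapK hM φ ε)
      = ∑ ψ : IrrCharacter K,
          classInner (fun k => (χ : G → ℂ) (φ k)) (ψ : K → ℂ) * tau hM ψ g ε := by
  obtain ⟨a, ha, hra, hca⟩ := exists_lift_idem hM he
  have hga := hca g hg
  have h2 : Commute (MonoidAlgebra.single (φ g) 1) (mapL hM φ a) := by
    rw [← mapL_single]; exact hga.map (mapL hM φ)
  rw [← hra, ← red_mapL, tau_eq χ (ha.map (mapL hM φ)) h2, val_mapL]
  simp only [tau_eq _ ha hga, val_single_mul]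
  have hexp : ∀ k, (χ : G → ℂ) (φ k)
      = ∑ ψ : IrrCharacter K, classInner (fun k => (χ : G → ℂ) (φ k)) (ψ : K → ℂ) * (ψ : K → ℂ) k :=
    fun k => by
      have h := congrFun (Char.IsClassFunction.eq_sum_irr (ψ := fun k => (χ : G → ℂ) (φ k))
        fun a b => by
          show (χ : G → ℂ) (φ (b * a * b⁻¹)) = _
          rw [map_mul, map_mul, map_inv, irr_conj_apply]) k
      rw [Finset.sum_apply] at h
      simpa using h
  simp only [← map_mul, Finset.mul_sum]
  rw [Finset.sum_comm]
  refine Finset.sum_congr rfl fun k _ => ?_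
  rw [hexp (g * k), Finset.mul_sum]
  exact Finset.sum_congr rfl fun ψ _ => by ring

/-- Restriction to a subgroup. -/
theorem tau_up (χ : IrrCharacter G) {H : Subgroup G} {g : H} {ε : KAlg hM H}
    (he : IsIdempotentElem ε) (hg : Commute (MonoidAlgebra.single g 1) ε) :
    tau hM χ (g : G) (CyclicRank.up hM H ε) = ∑ ψ : IrrCharacter H, resMult χ ψ * tau hM ψ g ε :=
  tau_mapK H.subtype χ he hg

/-- Transport along an isomorphism. -/
theorem tau_irrEquiv (φ : K ≃* G) (χ : IrrCharacter G) {g : K} {ε : KAlg hM K}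
    (he : IsIdempotentElem ε) (hg : Commute (MonoidAlgebra.single g 1) ε) :
    tau hM (irrEquiv φ χ) g ε = tau hM χ (φ g) (mapK hM φ.toMonoidHom ε) := by
  rw [show φ g = φ.toMonoidHom g from rfl, tau_mapK φ.toMonoidHom χ he hg,
    Finset.sum_eq_single (irrEquiv φ χ)]
  · rw [show (fun k => (χ : G → ℂ) (φ.toMonoidHom k)) = (irrEquiv φ χ : K → ℂ) from rfl,
      Char.classInner_irrCharacter, if_pos rfl, one_mul]
  · intro ψ _ hne
    rw [show (fun k => (χ : G → ℂ) (φ.toMonoidHom k)) = (irrEquiv φ χ : K → ℂ) from rfl,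
      Char.classInner_irrCharacter, if_neg (Ne.symm hne), zero_mul]
  · simp

theorem commute_one_single (ε : KAlg hM G) : Commute (MonoidAlgebra.single (1 : G) 1) ε := by
  rw [← MonoidAlgebra.one_def]; exact Commute.one_left ε

/-- The value at the identity is a natural number. -/
theorem tau_one_nat (χ : IrrCharacter G) {ε : KAlg hM G} (he : IsIdempotentElem ε) :
    ∃ n : ℕ, tau hM χ 1 ε = (n : ℂ) := by
  obtain ⟨n, hn⟩ := Char.IsCharacter.apply_one_eq (isCharacter_tau χ he ⊥ fun s hs => by
    rw [Subgroup.coe_bot, Set.mem_singleton_iff] at hs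
    subst hs
    exact commute_one_single ε)
  exact ⟨n, hn⟩

/-- The value at the identity only depends on the regular elements. -/
theorem tau_one_congr {χ ψ : IrrCharacter G}
    (hreg : ∀ x : G, ¬ p ∣ orderOf x → (χ : G → ℂ) x = (ψ : G → ℂ) x) {ε : KAlg hM G}
    (he : IsIdempotentElem ε) : tau hM χ 1 ε = tau hM ψ 1 ε := by
  obtain ⟨a, ha, hra, -⟩ := exists_lift_idem hM he
  rw [← hra, tau_eq χ ha (by rw [← MonoidAlgebra.one_def]; exact Commute.one_left a),
    tau_eq ψ ha (by rw [← MonoidAlgebra.one_def]; exact Commute.one_left a), val_single_mul,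
    val_single_mul]
  set c : G → ℂ := fun g => ((a.coeff g : localSubring hM) : ℂ)
  have hidem : ∀ g, ∑ x, c x * c (x⁻¹ * g) = c g := fun g => by
    have := congrArg (fun z : LAlg hM G => ((z.coeff g : localSubring hM) : ℂ)) ha.eq
    simp only [coeff_mul_eq, AddSubmonoidClass.coe_finsetSum, MulMemClass.coe_mul] at this
    exact this
  have key : ∀ θ : IrrCharacter G, (Nat.card G : ℂ) * ∑ g, c g * (θ : G → ℂ) (1 * g)
      = ∑ g, (θ : G → ℂ) g * ∑ x, c (x * g * x⁻¹) := by
    intro θ
    simp only [one_mul]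
    conv_rhs => enter [2, g]; rw [Finset.mul_sum]
    rw [Finset.sum_comm]
    have h1 : ∀ x : G, ∑ g, (θ : G → ℂ) g * c (x * g * x⁻¹) = ∑ g, c g * (θ : G → ℂ) g := fun x => by
      refine Fintype.sum_equiv (MulAut.conj x).toEquiv _ _ fun g => ?_
      show _ = c (x * g * x⁻¹) * (θ : G → ℂ) (x * g * x⁻¹)
      rw [irr_conj_apply, mul_comm]
    simp only [h1, Finset.sum_const, nsmul_eq_mul, Finset.card_univ, Nat.card_eq_fintype_card]
  apply mul_left_cancel₀ (Char.card_ne_zero (G := G))
  rw [key, key]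
  refine Finset.sum_congr rfl fun g _ => ?_
  by_cases hg : p ∣ orderOf g
  · rw [sum_conj_eq_zero_of_idempotent hM (fun x => (a.coeff x).2) hidem hg, mul_zero, mul_zero]
  · rw [hreg g hg]

theorem idempotent_mul_of_commute {R : Type*} [Ring R] {a b : R} (ha : IsIdempotentElem a)
    (hb : IsIdempotentElem b) (h : Commute a b) : IsIdempotentElem (a * b) := by
  show a * b * (a * b) = a * b
  rw [mul_assoc, ← mul_assoc b, ← h.eq, mul_assoc a b b, hb.eq, ← mul_assoc, ha.eq]

/-- An idempotent inside a block is not seen by the other blocks. -/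
theorem tau_eq_zero_of_notMem (χ : IrrCharacter G) {b : Set (IrrCharacter G)} (hb : IsPBlock M b)
    (hχ : χ ∉ b) {g : G} {ε : KAlg hM G} (he : IsIdempotentElem ε)
    (hg : Commute (MonoidAlgebra.single g 1) ε) (hεb : ε * idem hM b = ε) :
    tau hM χ g ε = 0 := by
  obtain ⟨a, ha, hra, hca⟩ := exists_lift_idem hM he
  let β : LAlg hM G := MonoidAlgebra.ofCoeff (Finsupp.equivFunOnFinite.symm fun x =>
    (⟨blockCoeff b x, blockCoeff_LR hM hb x⟩ : localSubring hM))
  have hβ : ∀ x, ((β.coeff x : localSubring hM) : ℂ) = blockCoeff b x := fun x => by simp [β]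
  have hβc : ∀ z : LAlg hM G, Commute β z := fun z => by
    rw [eq_sum_single z]
    refine Commute.sum_right _ _ _ fun x _ => ?_
    rw [show MonoidAlgebra.single x (z.coeff x)
      = z.coeff x • (MonoidAlgebra.single x 1 : LAlg hM G) by simp]
    refine Commute.smul_right ((commute_single_iff x β).2 fun y => Subtype.ext ?_).symm _
    rw [hβ, hβ]
    exact blockCoeff_isClassFunction b y x
  have hβi : IsIdempotentElem β := MonoidAlgebra.coeff_injective (Finsupp.ext fun x => Subtype.ext (by
    rw [coeff_mul_eq, hβ, AddSubmonoidClass.coe_finsetSum]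
    simp only [MulMemClass.coe_mul, hβ]
    rw [blockCoeff_conv, Set.inter_self]))
  have hβr : red hM β = idem hM b := ext_coeff fun x => by
    rw [coeff_red_resid, hβ, coeff_idem]
  have hga := hca g hg
  rw [show ε = red hM (a * β) by rw [map_mul, hra, hβr, hεb],
    tau_eq χ (idempotent_mul_of_commute ha hβi (hβc a).symm) (hga.mul_right (hβc _).symm),
    val_single_mul]
  simp only [coeff_mul_eq, AddSubmonoidClass.coe_finsetSum, MulMemClass.coe_mul, hβ, Finset.sum_mul]
  rw [Finset.sum_comm]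
  refine Finset.sum_eq_zero fun h _ => ?_
  have h0 : ∑ k, blockCoeff b k * (χ : G → ℂ) (g * h * k) = 0 := by
    rw [← blockPart_eq_conv b (Char.IsIrrCharacter.isClassFunction χ.2) (g * h), blockPart_eq_sum]
    refine Finset.sum_eq_zero fun φ _ => ?_
    rw [Char.classInner_irrCharacter]
    split_ifs with hφ
    · rw [blockInd_of_notMem (hφ ▸ hχ), zero_mul]
    · rw [zero_mul, mul_zero]
  calc _ = ((a.coeff h : localSubring hM) : ℂ) * ∑ k, blockCoeff b k * (χ : G → ℂ) (g * h * k) := by
        rw [Finset.mul_sum]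
        refine (Fintype.sum_equiv (Equiv.mulLeft h) _ _ fun k => ?_).symm
        simp only [Equiv.coe_mulLeft, inv_mul_cancel_left, mul_assoc]
    _ = 0 := by rw [h0, mul_zero]

/-- A central element acts by its scalar. -/
theorem tau_central {H : Subgroup G} (ψ : IrrCharacter H) {z : H} (hz : z ∈ Subgroup.center H)
    {ε : KAlg hM H} (he : IsIdempotentElem ε) : tau hM ψ z ε = centScalar ψ z * tau hM ψ 1 ε := by
  obtain ⟨a, ha, hra, -⟩ := exists_lift_idem hM he
  have hza : Commute (MonoidAlgebra.single z 1) a := (commute_single_iff z a).2 fun g => by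
    rw [← Subgroup.mem_center_iff.1 hz g, mul_inv_cancel_right]
  rw [← hra, tau_eq ψ ha hza, tau_eq ψ ha (by rw [← MonoidAlgebra.one_def]; exact Commute.one_left a),
    val_single_mul, val_single_mul, Finset.mul_sum]
  refine Finset.sum_congr rfl fun g _ => ?_
  rw [← Subgroup.mem_center_iff.1 hz g, centScalar_mul ψ hz, one_mul]
  ring

/-- `u` as an element of its centralizer. -/
def selfC (u : G) : cenZ u :=
  ⟨u, by rw [cenZ_eq, Subgroup.mem_centralizer_singleton_iff]⟩

theorem selfC_center (u : G) : selfC u ∈ Subgroup.center (cenZ u) := by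
  rw [Subgroup.mem_center_iff]
  intro c
  exact Subtype.ext (Subgroup.mem_centralizer_singleton_iff.1 (cenZ_eq u ▸ c.2))

/-- The generalized decomposition number of a Brauer element with one Brauer character. -/
noncomputable def dlt (χ : IrrCharacter G) (a : BElem G) : ℂ :=
  ∑ ψ : IrrCharacter (cenZ a.1), blockInd a.2 ψ * (resMult χ ψ * centScalar ψ (selfC a.1))

theorem secPart_eq_dlt (χ : IrrCharacter G) {a : BElem G} {ψ₀ : IrrCharacter (cenZ a.1)}
    (hreg : ∀ ψ ∈ a.2, ∀ c : cenZ a.1, ¬ p ∣ orderOf c →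
      (ψ : cenZ a.1 → ℂ) c = (ψ₀ : cenZ a.1 → ℂ) c)
    {c : cenZ a.1} (hc : ¬ p ∣ orderOf c) :
    secPart a.1 (cenZ a.1) a.2 χ c = dlt χ a * (ψ₀ : cenZ a.1 → ℂ) c := by
  rw [secPart_eq_sum_mult (x := a.1) (z := selfC a.1) rfl (selfC_center a.1), dlt, Finset.sum_mul]
  refine Finset.sum_congr rfl fun ψ _ => ?_
  by_cases hψ : ψ ∈ a.2
  · rw [hreg ψ hψ c hc]
  · rw [blockInd_of_notMem hψ]; ring

theorem isIdempotent_of_up {H : Subgroup G} {ε : KAlg hM H} {x : KAlg hM G}
    (hup : CyclicRank.up hM H ε = x) (hx : IsIdempotentElem x) : IsIdempotentElem ε :=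
  CyclicRank.up_injective hM H (by rw [map_mul, hup, hx.eq])

/-- The value of an idempotent at a `p`-element whose Brauer image lies in one block of the
centralizer, all members of which agree on the regular elements. -/
theorem tau_section [Fact p.Prime] (χ : IrrCharacter G) {a : BElem G}
    (hu : ∃ k : ℕ, orderOf a.1 = p ^ k) (hb : IsPBlock M a.2) {ψ₀ : IrrCharacter (cenZ a.1)}
    (hreg : ∀ ψ ∈ a.2, ∀ c : cenZ a.1, ¬ p ∣ orderOf c →
      (ψ : cenZ a.1 → ℂ) c = (ψ₀ : cenZ a.1 → ℂ) c)
    {ε : KAlg hM G} (he : IsIdempotentElem ε) (hg : Commute (MonoidAlgebra.single a.1 1) ε)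
    {ε' : KAlg hM (cenZ a.1)} (hup : CyclicRank.up hM (cenZ a.1) ε' = br (Subgroup.zpowers a.1) ε)
    (hεb : ε' * idem hM a.2 = ε') :
    tau hM χ a.1 ε = dlt χ a * tau hM ψ₀ 1 ε' := by
  obtain ⟨k, hk⟩ := hu
  have hpp : IsPPart p a.1 a.1 := ⟨1, mul_one _, Commute.one_right _, ⟨k, hk⟩, by
    rw [orderOf_one]; exact hM.1.not_dvd_one⟩
  have hfix : FixBy (Subgroup.zpowers a.1 : Set G) ε := fun s hs => by
    obtain ⟨l, rfl⟩ := (isOfFinOrder_of_finite a.1).mem_powers_iff_mem_zpowers.2 hs
    have := hg.pow_left l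
    rwa [MonoidAlgebra.single_pow, one_pow] at this
  have he0 : IsIdempotentElem (br (Subgroup.zpowers a.1) ε) :=
    br_idempotent (IsPGroup.of_card (n := k) (by rw [Nat.card_zpowers, hk])) hfix he
  have he' : IsIdempotentElem ε' := isIdempotent_of_up hup he0
  have hzc : Commute (MonoidAlgebra.single (selfC a.1) 1) ε' :=
    (commute_single_iff _ ε').2 fun g => by
      rw [← Subgroup.mem_center_iff.1 (selfC_center a.1) g, mul_inv_cancel_right]
  rw [tau_br hM.1 χ hpp he hg, ← hup]
  have hres := tau_up χ he' hzc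
  have hcoe : ((selfC a.1 : cenZ a.1) : G) = a.1 := rfl
  rw [hcoe] at hres
  rw [hres]
  rw [dlt, Finset.sum_mul]
  refine Finset.sum_congr rfl fun ψ _ => ?_
  by_cases hψ : ψ ∈ a.2
  · rw [blockInd_of_mem hψ, one_mul, tau_central ψ (selfC_center a.1) he',
      tau_one_congr (fun c hc => hreg ψ hψ c hc) he']
    ring
  · rw [tau_eq_zero_of_notMem ψ hb hψ he' hzc hεb, blockInd_of_notMem hψ]
    ring

end CfsgLib.Blocks.FreeAbelianCounts
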