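import Cfsg.Agent.Lib.Blocks.FreeAbelianCounts.Local
import Cfsg.Agent.Lib.Blocks.FreeAbelianCounts.Regular
import Cfsg.Agent.Lib.BrouePuig.Isometry.FreeFrame

/-!
# The columns of decomposition numbers at the nonidentity elements of a defect group

For a free inertial action the columns at two nonidentity elements are orthogonal unless the
elements are conjugate under the stabilizer, each column has norm the order of the defect group,
and conjugation by the stabilizer fixes the columns.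
-/

set_option autoImplicit false
set_option linter.unusedSectionVars false
set_option maxHeartbeats 800000

namespace CfsgLib.Blocks.FreeAbelianCounts

open Cfsg CfsgLib.Blocks CfsgLib.BrauerPairs CfsgLib.BrouePuig
open scoped Classical ComplexConjugate

universe u

variable {p : ℕ} {M : Ideal AlgInt} {G : Type u} [Group G] [Fintype G]

theorem one_regular {K : Type*} [Group K] (hp : p.Prime) : ¬ p ∣ orderOf (1 : K) := by
  rw [orderOf_one]; exact hp.not_dvd_one

theorem pPart_mul_cen (hp : p.Prime) {x : G} (hx : ∃ k : ℕ, orderOf x = p ^ k) {c : cenZ x}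
    (hc : IsPRegular p c) : pPart p (x * (c : G)) = x := by
  obtain ⟨k, hk⟩ := hx
  refine pPart_eq hp (isPPart_mul ?_ hk (by rw [Subgroup.orderOf_coe]; exact hc))
  exact Subgroup.mem_centralizer_iff.1 c.2 x (Subgroup.mem_zpowers x)

/-- A contribution at the identity is orthogonal to the values outside its section. -/
theorem sum_secPart_mul_irr (hM : IsPModular p M) {a : BElem G}
    (hx : ∃ k : ℕ, orderOf a.1 = p ^ k) (hb : IsPBlock M a.2) {g : G}
    (hg : ¬ IsConj a.1 (pPart p g)) :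
    ∑ χ : IrrCharacter G, secPart a.1 (cenZ a.1) a.2 χ 1 * conj ((χ : G → ℂ) g) = 0 := by
  simp only [secPart_eq_sum_regular hM hb _ _ (one_regular hM.1), Finset.mul_sum, Finset.sum_mul]
  rw [Finset.sum_comm]
  refine Finset.sum_eq_zero fun c hc => ?_
  have hne : ¬ IsConj (a.1 * (c : G)) g := by
    intro h
    obtain ⟨y, hy⟩ := isConj_iff.1 h
    refine hg (isConj_iff.2 ⟨y, ?_⟩)
    rw [← hy, pPart_conj hM.1, pPart_mul_cen hM.1 hx (Finset.mem_filter.1 hc).2]
  have h0 := Char.sum_irr_mul_conj (a.1 * (c : G)) g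
  rw [if_neg hne] at h0
  refine Eq.trans ?_ (mul_eq_zero_of_right
    ((Nat.card (cenZ a.1) : ℂ)⁻¹ * blockKernel a.2 c 1) h0)
  rw [Finset.mul_sum]
  exact Finset.sum_congr rfl fun χ _ => by ring

/-- Contributions at nonconjugate sections are orthogonal. -/
theorem sum_secPart_nonconj (hM : IsPModular p M) {a b : BElem G}
    (hxa : ∃ k : ℕ, orderOf a.1 = p ^ k) (hba : IsPBlock M a.2)
    (hxb : ∃ k : ℕ, orderOf b.1 = p ^ k) (hbb : IsPBlock M b.2) (hne : ¬ IsConj a.1 b.1) :
    ∑ χ : IrrCharacter G,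
      secPart a.1 (cenZ a.1) a.2 χ 1 * conj (secPart b.1 (cenZ b.1) b.2 χ 1) = 0 := by
  simp only [secPart_eq_sum_regular hM hbb _ _ (one_regular hM.1), map_mul, map_sum,
    Finset.mul_sum]
  rw [Finset.sum_comm]
  refine Finset.sum_eq_zero fun d hd => ?_
  have h0 := sum_secPart_mul_irr hM hxa hba (g := b.1 * (d : G))
    (by rwa [pPart_mul_cen hM.1 hxb (Finset.mem_filter.1 hd).2])
  refine Eq.trans ?_ (mul_eq_zero_of_right
    (conj (Nat.card (cenZ b.1) : ℂ)⁻¹ * conj (blockKernel b.2 d 1)) h0)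
  rw [Finset.mul_sum]
  exact Finset.sum_congr rfl fun χ _ => by ring

/-- Contributions of different blocks at the same element are orthogonal. -/
theorem sum_secPart_same (hM : IsPModular p M) {u : G} (hu : ∃ k : ℕ, orderOf u = p ^ k)
    {f f' : Set (IrrCharacter (cenZ u))} (hf : IsPBlock M f) (hf' : IsPBlock M f') (hne : f ≠ f') :
    ∑ χ : IrrCharacter G,
      secPart u (cenZ u) f χ 1 * conj (secPart u (cenZ u) f' χ 1) = 0 := by
  set n : ℂ := (Nat.card (cenZ u) : ℂ) with hn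
  have e : ∀ χ : IrrCharacter G,
      secPart u (cenZ u) f χ 1 * conj (secPart u (cenZ u) f' χ 1)
        = ∑ d : cenZ u with IsPRegular p d, ∑ c : cenZ u with IsPRegular p c,
          n⁻¹ * n⁻¹ * conj (blockKernel f' d 1) * (blockKernel f c 1 *
            ((χ : G → ℂ) (u * (c : G)) * (χ : G → ℂ) (u * (d : G))⁻¹)) := fun χ => by
    rw [secPart_eq_sum_regular hM hf _ _ (one_regular hM.1),
      secPart_eq_sum_regular hM hf' _ _ (one_regular hM.1)]
    rw [← hn]
    have hconj : conj n = n := by rw [hn, map_natCast]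
    simp only [map_mul, map_inv₀, hconj, map_sum, conj_irr, Finset.mul_sum, Finset.sum_mul]
    exact Finset.sum_congr rfl fun d _ => Finset.sum_congr rfl fun c _ => by ring
  rw [Finset.sum_congr rfl fun χ _ => e χ, Finset.sum_comm]
  have inner : ∀ d : cenZ u, IsPRegular p d →
      ∑ χ : IrrCharacter G, ∑ c : cenZ u with IsPRegular p c,
        n⁻¹ * n⁻¹ * conj (blockKernel f' d 1) * (blockKernel f c 1 *
          ((χ : G → ℂ) (u * (c : G)) * (χ : G → ℂ) (u * (d : G))⁻¹))
        = n⁻¹ * n⁻¹ * conj (blockKernel f' d 1) * (n * blockKernel f d 1) := by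
    intro d hd
    rw [Finset.sum_comm]
    simp only [← Finset.mul_sum]
    rw [Finset.sum_congr rfl (g := fun c : cenZ u => blockKernel f c 1 *
      ((Finset.univ.filter fun g : cenZ u => g * c * g⁻¹ = d).card : ℂ)) fun c hc => by
        rw [sum_irr_section hM.1 (cenZ_eq u) hu (Finset.mem_filter.1 hc).2 hd]]
    congr 1
    have h5 := sum_mul_card_conj p (fun c : cenZ u => blockKernel f c 1)
      (fun c g => blockKernel_conj f c 1 g) hd
    convert h5 using 1
    congr! 5
  rw [Finset.sum_congr rfl fun d hd => inner d (Finset.mem_filter.1 hd).2]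
  simp only [blockKernel, map_sum, map_mul, conj_irr, inv_inv, Finset.mul_sum, Finset.sum_mul]
  rw [Finset.sum_comm]
  refine Finset.sum_eq_zero fun φ _ => ?_
  rw [Finset.sum_comm]
  refine Finset.sum_eq_zero fun ξ _ => ?_
  by_cases hφ : φ ∈ f
  swap
  · exact Finset.sum_eq_zero fun d _ => by rw [blockInd_of_notMem hφ]; simp
  by_cases hξ : ξ ∈ f'
  swap
  · exact Finset.sum_eq_zero fun d _ => by rw [blockInd_of_notMem hξ]; simp
  have h0 : regInner p (ξ : cenZ u → ℂ) (φ : cenZ u → ℂ) = 0 :=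
    IsPBlock.regInner_eq_zero hM hf' hξ fun h => hne (IsPBlock.eq_of_mem hM hf hf' hφ h)
  rw [regInner, mul_eq_zero] at h0
  have h1 : ∑ c : cenZ u with IsPRegular p c, (ξ : cenZ u → ℂ) c * (φ : cenZ u → ℂ) c⁻¹ = 0 :=
    h0.resolve_left (mul_ne_zero (pPartCard_ne_zero hM.1)
      (inv_ne_zero CfsgLib.Char.card_ne_zero))
  refine Eq.trans ?_ (mul_eq_zero_of_right (n⁻¹ * n⁻¹ * n * conj (blockInd f' ξ) *
    conj ((ξ : cenZ u → ℂ) 1) * blockInd f φ * (φ : cenZ u → ℂ) 1) h1)
  rw [Finset.mul_sum]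
  exact Finset.sum_congr rfl fun d _ => by rw [conj_irr]; ring

/-- Contributions of Brauer elements that are not conjugate are orthogonal. -/
theorem sum_secPart_orth (hM : IsPModular p M) {a b : BElem G}
    (ha : a ∈ elems p M G) (hb : b ∈ elems p M G) (hne : ∀ y : G, act y a ≠ b) :
    ∑ χ : IrrCharacter G,
      secPart a.1 (cenZ a.1) a.2 χ 1 * conj (secPart b.1 (cenZ b.1) b.2 χ 1) = 0 := by
  obtain ⟨hxa, hba⟩ := mem_elems.1 ha
  obtain ⟨hxb, hbb⟩ := mem_elems.1 hb
  by_cases h : IsConj a.1 b.1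
  swap
  · exact sum_secPart_nonconj hM hxa hba hxb hbb h
  obtain ⟨y, hy⟩ := isConj_iff.1 h
  have haux : ∀ a' b' : BElem G, a'.1 = b'.1 → a' ≠ b' → (∃ k : ℕ, orderOf b'.1 = p ^ k) →
      IsPBlock M a'.2 → IsPBlock M b'.2 → ∑ χ : IrrCharacter G,
        secPart a'.1 (cenZ a'.1) a'.2 χ 1 * conj (secPart b'.1 (cenZ b'.1) b'.2 χ 1) = 0 := by
    rintro ⟨v, f⟩ ⟨v', f'⟩ hv hn hx hf hf'
    obtain rfl : v = v' := hv
    exact sum_secPart_same hM hx hf hf' fun hff => hn (by subst hff; rfl)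
  refine Eq.trans ?_ (haux (act y a) b hy (hne y) hxb (isPBlock_act y hba) hbb)
  exact Finset.sum_congr rfl fun χ _ => by rw [secPart_act hM χ y hba 1 1 (by simp)]

variable [Fact p.Prime] {B : Set (IrrCharacter G)} {P : Subgroup G}
  {c : Set (IrrCharacter (Subgroup.centralizer (P : Set G)))} {hM : IsPModular p M}

/-- The decomposition number at an element of the defect group. -/
noncomputable def col (hM : IsPModular p M) (hP : IsBrauerPair p M P c) (χ : IrrCharacter G)
    (w : P) : ℂ :=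
  dlt χ (bel hM hP w)

/-- The Brauer character of the block below a nonidentity element. -/
theorem exists_ref (hmax : IsMaximalBrauerPair p M B P c) (hab : ∀ x ∈ P, ∀ y ∈ P, x * y = y * x)
    (hfree : FreeAct P c) {w : P} (hw : w ≠ 1) :
    ∃ ψ₀ : IrrCharacter (cenZ (bel hM hmax.1.1 w).1),
      (∀ χ (x : cenZ (bel hM hmax.1.1 w).1), ¬ p ∣ orderOf x →
        secPart (bel hM hmax.1.1 w).1 (cenZ (bel hM hmax.1.1 w).1) (bel hM hmax.1.1 w).2 χ x
          = col hM hmax.1.1 χ w * (ψ₀ : cenZ (bel hM hmax.1.1 w).1 → ℂ) x)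
      ∧ ∑ χ ∈ B.toFinset, col hM hmax.1.1 χ w * conj (col hM hmax.1.1 χ w) = (Nat.card P : ℂ) := by
  have hQP : Subgroup.zpowers (w : G) ≤ P := Subgroup.zpowers_le.2 w.2
  set a := bel hM hmax.1.1 w with ha_def
  have ha : IsElemOf p M B a := isElemOf_of_below hM hmax (bel_below hM hmax.1.1 w)
  have hnest : IsMaximalBrauerPair p M a.2 _ _ :=
    maximal_nested hM hmax hab hQP (bel_inducedIn hM hmax.1.1 hab w)
  have hnil : IsNilpotentBlock p M a.2 := nilpotent_bel hM hmax hab hfree hw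
  obtain ⟨χ₀, hreg, hnorm⟩ := nilpotent_regular hM hnil hnest
    (fun x hx y hy => Subtype.ext (hab _ hx _ hy))
  have hP : Nat.card (P.subgroupOf (Subgroup.centralizer
      (Subgroup.zpowers (w : G) : Set G))) = Nat.card P :=
    Nat.card_congr (Subgroup.subgroupOfEquivOfLe (le_centralizer_of_abelian hab hQP)).toEquiv
  refine ⟨χ₀, fun χ x hx => secPart_eq_dlt χ (ψ₀ := χ₀) hreg hx, ?_⟩
  set S : ℂ := ∑ x : cenZ a.1 with IsPRegular p x,
    (χ₀ : cenZ a.1 → ℂ) x * conj ((χ₀ : cenZ a.1 → ℂ) x)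
  have h1 := sum_secInner hM ha
  rw [Finset.sum_congr rfl fun χ _ => secInner_eq_dlt χ χ (ψ₀ := χ₀) hreg, ← Finset.sum_mul,
    blockRank_eq_one_of_nilpotent hM hnil hnest, Nat.cast_one, mul_one] at h1
  have hne : (Nat.card (cenZ a.1) : ℂ) ≠ 0 := Nat.cast_ne_zero.2 Nat.card_pos.ne'
  have hnorm' : (Nat.card P : ℂ) * S = (Nat.card (cenZ a.1) : ℂ) := by rw [← hP]; exact hnorm
  have hS : S ≠ 0 := fun h => hne (by rw [← hnorm', h, mul_zero])
  apply mul_right_cancel₀ hS
  exact h1.trans hnorm'.symm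

theorem col_eq_zero (hmax : IsMaximalBrauerPair p M B P c)
    (hab : ∀ x ∈ P, ∀ y ∈ P, x * y = y * x) (hfree : FreeAct P c) {χ : IrrCharacter G}
    (hχ : χ ∉ B) {w : P} (hw : w ≠ 1) : col hM hmax.1.1 χ w = 0 := by
  obtain ⟨ψ₀, hsec, -⟩ := exists_ref (hM := hM) hmax hab hfree hw
  have hel := isElemOf_of_below hM hmax (bel_below hM hmax.1.1 w)
  have h := secPart_eq_zero_of_notMem hM (cenZ_eq _) (mem_elems.1 (hel.mem hM.1)).1
    ((isBrauerPairOf_iff_induced hM hel.1.1 hel.1.2).1 hel) hχ (one_regular hM.1)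
  rw [hsec χ 1 (one_regular hM.1)] at h
  exact (mul_eq_zero.1 h).resolve_right (irr_one_ne_zero ψ₀)

theorem col_ne_zero (hmax : IsMaximalBrauerPair p M B P c)
    (hab : ∀ x ∈ P, ∀ y ∈ P, x * y = y * x) (hfree : FreeAct P c) {χ : IrrCharacter G}
    (hχ : χ ∈ B) {w : P} (hw : w ≠ 1) : col hM hmax.1.1 χ w ≠ 0 := by
  obtain ⟨ψ₀, hsec, -⟩ := exists_ref (hM := hM) hmax hab hfree hw
  have hel := isElemOf_of_below hM hmax (bel_below hM hmax.1.1 w)
  obtain ⟨x, hx, hne⟩ := exists_secPart_ne_zero_of_major hM hel (major_bel hM hmax hab w) hχ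
  exact fun h => hne (by rw [hsec χ x hx, h, zero_mul])

theorem sum_col_self (hmax : IsMaximalBrauerPair p M B P c)
    (hab : ∀ x ∈ P, ∀ y ∈ P, x * y = y * x) (hfree : FreeAct P c) {w : P} (hw : w ≠ 1) :
    ∑ χ : IrrCharacter G, col hM hmax.1.1 χ w * conj (col hM hmax.1.1 χ w)
      = (Nat.card P : ℂ) := by
  obtain ⟨-, -, h⟩ := exists_ref (hM := hM) hmax hab hfree hw
  rw [← h]
  exact (Finset.sum_subset (Finset.subset_univ _) fun χ _ hχ => by
    rw [col_eq_zero hmax hab hfree (fun h => hχ (Set.mem_toFinset.2 h)) hw, zero_mul]).symm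

/-- The stabilizer fixes the columns. -/
theorem col_conj (hmax : IsMaximalBrauerPair p M B P c)
    (hab : ∀ x ∈ P, ∀ y ∈ P, x * y = y * x) (hfree : FreeAct P c) {t : G} (ht : t ∈ pairStab P c)
    {w w' : P} (hw : w ≠ 1) (hww : (w' : G) = t * (w : G) * t⁻¹) (χ : IrrCharacter G) :
    col hM hmax.1.1 χ w' = col hM hmax.1.1 χ w := by
  have hw' : w' ≠ 1 := fun h => hw (Subtype.ext ((conj_eq_one_iff (a := t)).1 (by rw [← hww, h]; rfl)))
  obtain ⟨ψ, hsec, -⟩ := exists_ref (hM := hM) hmax hab hfree hw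
  obtain ⟨ψ', hsec', -⟩ := exists_ref (hM := hM) hmax hab hfree hw'
  have hel := isElemOf_of_below hM hmax (bel_below hM hmax.1.1 w)
  have hact : act t (bel hM hmax.1.1 w) = bel hM hmax.1.1 w' := by
    rw [act_bel_stab hM hmax.1.1 ht w]
    exact congrArg _ (Subtype.ext hww.symm)
  set d : ℕ := charDegree (ψ : cenZ (bel hM hmax.1.1 w).1 → ℂ)
  set d' : ℕ := charDegree (ψ' : cenZ (bel hM hmax.1.1 w').1 → ℂ)
  have hrel : ∀ χ, col hM hmax.1.1 χ w' * (d' : ℂ) = col hM hmax.1.1 χ w * (d : ℂ) := fun χ => by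
    have h := Isometry.secPart_act_of_eq hM χ t hel.1.2 hact 1 1 (by simp)
    rw [hsec χ 1 (one_regular hM.1), hsec' χ 1 (one_regular hM.1), irr_one_eq, irr_one_eq] at h
    exact h
  have hd : d' = d := by
    have h : (Nat.card P : ℂ) * ((d' : ℂ) * d') = (Nat.card P : ℂ) * ((d : ℂ) * d) := by
      conv_lhs => rw [← sum_col_self (hM := hM) hmax hab hfree hw', Finset.sum_mul]
      conv_rhs => rw [← sum_col_self (hM := hM) hmax hab hfree hw, Finset.sum_mul]
      refine Finset.sum_congr rfl fun χ _ => ?_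
      have h2 := congrArg conj (hrel χ)
      rw [map_mul, map_mul, map_natCast, map_natCast] at h2
      calc _ = col hM hmax.1.1 χ w' * (d' : ℂ) * (conj (col hM hmax.1.1 χ w') * (d' : ℂ)) := by ring
        _ = _ := by rw [hrel χ, h2]; ring
    have h' : d' * d' = d * d := by
      exact_mod_cast mul_left_cancel₀ Char.card_ne_zero h
    exact Nat.mul_self_inj.1 h'
  have h := hrel χ
  rw [hd] at h
  exact mul_right_cancel₀ (Nat.cast_ne_zero.2 (charDegree_pos ψ).ne') h

/-- The columns at elements not conjugate under the stabilizer are orthogonal. -/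
theorem sum_col_orth (hmax : IsMaximalBrauerPair p M B P c)
    (hab : ∀ x ∈ P, ∀ y ∈ P, x * y = y * x) (hfree : FreeAct P c) {w v : P} (hw : w ≠ 1)
    (hv : v ≠ 1) (hne : ∀ t ∈ pairStab P c, t * (w : G) * t⁻¹ ≠ (v : G)) :
    ∑ χ : IrrCharacter G, col hM hmax.1.1 χ w * conj (col hM hmax.1.1 χ v) = 0 := by
  obtain ⟨ψ, hsec, -⟩ := exists_ref (hM := hM) hmax hab hfree hw
  obtain ⟨ψ', hsec', -⟩ := exists_ref (hM := hM) hmax hab hfree hv
  have hA := (isElemOf_of_below hM hmax (bel_below hM hmax.1.1 w)).mem hM.1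
  have hB := (isElemOf_of_below hM hmax (bel_below hM hmax.1.1 v)).mem hM.1
  have h := sum_secPart_orth hM hA hB fun y hy => by
    have hmv : Moves p M P c (Subgroup.zpowers (w : G)) y := by
      refine ⟨(bel hM hmax.1.1 w).2, bel_below hM hmax.1.1 w, ?_⟩
      show Below p M P c (conjPair y (bel hM hmax.1.1 w).pair)
      rw [← pair_act, hy]
      exact bel_below hM hmax.1.1 v
    obtain ⟨t, ht, htk⟩ := exists_stab_of_moves hM hmax hab hmv
    exact hne t ht ((htk _ (Subgroup.mem_zpowers _)).trans (congrArg Sigma.fst hy))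
  refine (mul_eq_zero.1 (Eq.trans ?_ h)).resolve_right
    (mul_ne_zero (irr_one_ne_zero ψ) ((map_ne_zero (starRingEnd ℂ)).2 (irr_one_ne_zero ψ')))
  rw [Finset.sum_mul]
  refine Finset.sum_congr rfl fun χ _ => ?_
  rw [hsec χ 1 (one_regular hM.1), hsec' χ 1 (one_regular hM.1), map_mul]
  ring

/-- The columns are orthogonal to the degrees. -/
theorem sum_col_deg (hmax : IsMaximalBrauerPair p M B P c)
    (hab : ∀ x ∈ P, ∀ y ∈ P, x * y = y * x) (hfree : FreeAct P c) {w : P} (hw : w ≠ 1) :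
    ∑ χ : IrrCharacter G, col hM hmax.1.1 χ w * (χ : G → ℂ) 1 = 0 := by
  obtain ⟨ψ, hsec, -⟩ := exists_ref (hM := hM) hmax hab hfree hw
  obtain ⟨hx, hb⟩ := mem_elems.1 ((isElemOf_of_below hM hmax (bel_below hM hmax.1.1 w)).mem hM.1)
  have h := sum_secPart_mul_irr hM hx hb (g := 1) (by
    rw [pPart_eq hM.1 (isPPart_one_of_regular (one_regular hM.1))]
    exact fun h => hw (Subtype.ext (isConj_one_left.1 h)))
  refine (mul_eq_zero.1 (Eq.trans ?_ h)).resolve_right (irr_one_ne_zero ψ)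
  rw [Finset.sum_mul]
  refine Finset.sum_congr rfl fun χ _ => ?_
  rw [hsec χ 1 (one_regular hM.1), irr_one_eq χ, map_natCast]
  ring

end CfsgLib.Blocks.FreeAbelianCounts
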