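import Cfsg.Agent.Lib.Blocks.FreeAbelianCounts.Trace
import Cfsg.Agent.Lib.BrouePuig.Isometry.FreeFrame

/-!
# Source idempotents of a block with abelian defect group

A primitive idempotent among those fixed by the defect group whose Brauer image lies in the root
block and has rank prime to `p`; it is equivalent to all of its conjugates by the stabilizer of
the maximal pair.
-/

set_option autoImplicit false
set_option linter.unusedSectionVars false
set_option maxHeartbeats 800000

namespace CfsgLib.Blocks.FreeAbelianCounts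

open Cfsg CfsgLib.Blocks CfsgLib.Blocks.ResidueAlgebra CfsgLib.Blocks.TwoCharacters
  CfsgLib.BrauerPairs CfsgLib.BrouePuig CfsgLib.Blocks.CyclicRank
open scoped Classical

universe u

variable {p : ℕ} {M : Ideal AlgInt} {hM : IsPModular p M} {G : Type u} [Group G] [Fintype G]

/-- Truncation to a subgroup. -/
noncomputable def down (hM : IsPModular p M) (H : Subgroup G) :
    KAlg hM G →ₗ[Residue hM] KAlg hM H where
  toFun x := ∑ k : H, MonoidAlgebra.single k (x.coeff (k : G))
  map_add' x y := by
    rw [← Finset.sum_add_distrib]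
    exact Finset.sum_congr rfl fun k _ => by
      rw [MonoidAlgebra.coeff_add, Finsupp.add_apply, MonoidAlgebra.single_add]
  map_smul' r x := by
    rw [RingHom.id_apply, Finset.smul_sum]
    exact Finset.sum_congr rfl fun k _ => by
      rw [MonoidAlgebra.coeff_smul, Finsupp.smul_apply, MonoidAlgebra.smul_single]

theorem coeff_down (H : Subgroup G) (x : KAlg hM G) (k : H) :
    (down hM H x).coeff k = x.coeff (k : G) := by
  show (∑ l : H, MonoidAlgebra.single l (x.coeff (l : G))).coeff k = _
  simp [MonoidAlgebra.coeff_sum, Finsupp.single_apply]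

theorem up_down {H : Subgroup G} {x : KAlg hM G} (hx : ∀ g ∉ H, x.coeff g = 0) :
    up hM H (down hM H x) = x := by
  refine ext_coeff fun g => ?_
  rw [coeff_up]
  split_ifs with hg
  · rw [coeff_down]
  · exact (hx g hg).symm

theorem up_down_br (T : Subgroup G) (x : KAlg hM G) :
    up hM (Subgroup.centralizer (T : Set G)) (down hM _ (br T x)) = br T x :=
  up_down fun _ hg => br_apply_notMem T x hg

theorem br_up (T : Subgroup G) (y : KAlg hM (Subgroup.centralizer (T : Set G))) :
    br T (up hM _ y) = up hM _ y :=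
  br_eq_self T fun g hg => supp_up hM _ y g hg

theorem fixBy_up {T : Subgroup G} (y : KAlg hM (Subgroup.centralizer (T : Set G))) :
    FixBy (T : Set G) (up hM _ y) := by
  intro s hs
  refine (commute_single_iff s _).2 fun g => ?_
  by_cases hg : g ∈ Subgroup.centralizer (T : Set G)
  · rw [Subgroup.mem_centralizer_iff.1 hg s hs, mul_inv_cancel_right]
  · rw [supp_up hM _ y g hg, supp_up hM _ y _ fun h => hg
      ((mem_iff_of_normalizer (normalizer_le_normalizer_centralizer T (Subgroup.le_normalizer hs)) g).1 h)]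

theorem br_smul (T : Subgroup G) (r : Residue hM) (x : KAlg hM G) : br T (r • x) = r • br T x := by
  refine ext_coeff fun g => ?_
  simp only [coeff_br, MonoidAlgebra.coeff_smul, Finsupp.smul_apply]
  split_ifs <;> simp

theorem br_pow_succ {T : Subgroup G} (hT : IsPGroup p T) {x : KAlg hM G}
    (hx : FixBy (T : Set G) x) (n : ℕ) : br T (x ^ (n + 1)) = br T x ^ (n + 1) := by
  induction n with
  | zero => rw [zero_add, pow_one, pow_one]
  | succ n ih =>
    rw [pow_succ x (n + 1), br_mul hT (fun s hs => (hx s hs).pow_right _) hx, ih, ← pow_succ]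

/-- A residual linear form not vanishing on an idempotent is nonzero on a primitive one. -/
theorem exists_prim {S : Set G} (Θ : KAlg hM G →ₗ[Residue hM] Residue hM) :
    ∀ j : KAlg hM G, IsIdempotentElem j → FixBy S j → Θ j ≠ 0 →
      ∃ e, PrimOn S e ∧ Θ e ≠ 0 := by
  intro j
  induction hd : Module.finrank (Residue hM) (LinearMap.range (LinearMap.mulRight (Residue hM) j))
    using Nat.strong_induction_on generalizing j with
  | _ d ih =>
  intro hj hfix hΘ
  have hj0 : j ≠ 0 := fun h => hΘ (by rw [h, map_zero])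
  by_cases hprim : PrimOn S j
  · exact ⟨j, hprim, hΘ⟩
  obtain ⟨e, he, hef, hje, hej, hne0, hne⟩ : ∃ e : KAlg hM G, IsIdempotentElem e ∧
      FixBy S e ∧ j * e = e ∧ e * j = e ∧ e ≠ 0 ∧ e ≠ j := by
    by_contra hcon
    push Not at hcon
    exact hprim ⟨hj, hfix, hj0, fun e he hef h1 h2 =>
      or_iff_not_imp_left.2 fun h3 => hcon e he hef h1 h2 h3⟩
  have he' : IsIdempotentElem (j - e) := by
    show (j - e) * (j - e) = j - e
    rw [sub_mul, mul_sub, mul_sub, hj.eq, hje, hej, he.eq, sub_self, sub_zero]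
  have hje' : j * (j - e) = j - e := by rw [mul_sub, hj.eq, hje]
  have hej' : (j - e) * j = j - e := by rw [sub_mul, hj.eq, hej]
  by_cases h1 : Θ e = 0
  · refine ih _ (hd ▸ finrank_mulRight_lt he' hje' hej' fun h => hne0 (sub_eq_self.1 h)) (j - e) rfl
      he' (fun s hs => (hfix s hs).sub_right (hef s hs)) ?_
    rwa [map_sub, h1, sub_zero]
  · exact ih _ (hd ▸ finrank_mulRight_lt he hje hej hne) e rfl he hef h1

/-- Every element of a primitive corner is a scalar plus a nilpotent element. -/
theorem exists_scalar {S : Set G} {j y : KAlg hM G} (hj : PrimOn S j) (hy : FixBy S y)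
    (hjy : j * y = y) (hyj : y * j = y) :
    ∃ r : Residue hM, IsNilpotent (y - r • j) := by
  obtain ⟨F, hF, hFy⟩ : ∃ F : Polynomial (Residue hM), F.Monic ∧ Polynomial.aeval y F = 0 :=
    Algebra.IsIntegral.isIntegral y
  obtain ⟨s, hs⟩ := splits_residue hM F hF
  by_contra hno
  push Not at hno
  suffices key : ∀ t : Multiset (Residue hM),
      j * Polynomial.aeval y ((t.map fun r => Polynomial.X - Polynomial.C r).prod) ≠ 0 by
    exact key s (by rw [← hs, hFy, mul_zero])
  intro t
  induction t using Multiset.induction_on with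
  | empty => simpa using hj.ne
  | cons r t iht =>
    intro h0
    refine iht ?_
    obtain ⟨v, -, -, -, -, hv⟩ := (hj.nilpotent_or_inv (x := y - r • j)
      (fun g hg => (hy g hg).sub_right ((hj.fix g hg).smul_right r))
      (by rw [mul_sub, hjy, mul_smul_comm, hj.idem.eq])
      (by rw [sub_mul, hyj, smul_mul_assoc, hj.idem.eq])).resolve_left (hno r)
    set W := Polynomial.aeval y ((t.map fun r => Polynomial.X - Polynomial.C r).prod)
    rw [Multiset.map_cons, Multiset.prod_cons, map_mul, map_sub, Polynomial.aeval_X,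
      Polynomial.aeval_C, Algebra.algebraMap_eq_smul_one] at h0
    have h1 : (y - r • j) * (j * W) = 0 := by
      rw [← mul_assoc, sub_mul, hyj, smul_mul_assoc, hj.idem.eq]
      calc (y - r • j) * W = j * ((y - r • (1 : KAlg hM G)) * W) := by
            rw [← mul_assoc, mul_sub, hjy, mul_smul_comm, mul_one]
        _ = 0 := h0
    calc j * W = v * (y - r • j) * (j * W) := by rw [hv, ← mul_assoc, hj.idem.eq]
      _ = 0 := by rw [mul_assoc, h1, mul_zero]

variable [Fact p.Prime] {B : Set (IrrCharacter G)} {P : Subgroup G}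
  {c : Set (IrrCharacter (Subgroup.centralizer (P : Set G)))}

/-- The block below a maximal pair is the induced one. -/
theorem below_inducedIn (hM : IsPModular p M) (hP : IsBrauerPair p M P c)
    (hab : ∀ x ∈ P, ∀ y ∈ P, x * y = y * x) {T : Subgroup G} (hTP : T ≤ P)
    {f : Set (IrrCharacter (Subgroup.centralizer (T : Set G)))} (hf : SubpairLE p M T f P c) :
    IsInducedBlockIn M (Subgroup.centralizer (T : Set G)) (Subgroup.centralizer (P : Set G)) c f := by
  obtain ⟨f', hf'⟩ := exists_inducedIn hM (H := Subgroup.centralizer (T : Set G))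
    (le_centralizer_of_abelian hab hTP) hP.1 (BrouePuig.centralizer_le_centralizer hTP) hP.2
  have hle : SubpairLE p M T f' P c :=
    Relation.ReflTransGen.single (normalSubpair_of_inducedIn hM hTP hab hP.1 hf')
  rwa [(existsUnique_below hM hP hTP).unique hle hf] at hf'

theorem centerD (hab : ∀ x ∈ P, ∀ y ∈ P, x * y = y * x) :
    P.subgroupOf (Subgroup.centralizer (P : Set G)) ≤ Subgroup.center _ := fun d hd =>
  Subgroup.mem_center_iff.2 fun k => Subtype.ext
    (Subgroup.mem_centralizer_iff.1 k.2 (d : G) (Subgroup.mem_subgroupOf.1 hd)).symm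

/-- The members of the root block. -/
theorem root_block (hM : IsPModular p M) (hmax : IsMaximalBrauerPair p M B P c)
    (hab : ∀ x ∈ P, ∀ y ∈ P, x * y = y * x) :
    (∀ ψ ∈ c, ∀ ψ' ∈ c, ∀ x : Subgroup.centralizer (P : Set G), ¬ p ∣ orderOf x →
      (ψ : Subgroup.centralizer (P : Set G) → ℂ) x = (ψ' : Subgroup.centralizer (P : Set G) → ℂ) x) ∧
    ∀ ψ ∈ c,
      MemLocalRing M (((P.subgroupOf (Subgroup.centralizer (P : Set G))).index : ℂ) /
        (ψ : Subgroup.centralizer (P : Set G) → ℂ) 1) ∧
      MemLocalRing M ((ψ : Subgroup.centralizer (P : Set G) → ℂ) 1 /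
        ((P.subgroupOf (Subgroup.centralizer (P : Set G))).index : ℂ)) := by
  have hin : IsInducedBlockIn M (Subgroup.centralizer (P : Set G)) (Subgroup.centralizer (P : Set G)) c c := below_inducedIn hM hmax.1.1 hab le_rfl .refl
  have hnest := maximal_nested hM hmax hab le_rfl hin
  have hnil : IsNilpotentBlock p M c :=
    (nilpotent_nested_iff hM hmax hab le_rfl hin).2 fun _ _ h => h
  obtain ⟨χ₀, hreg, -⟩ := nilpotent_regular hM hnil hnest
    (fun x hx y hy => Subtype.ext (hab _ hx _ hy))
  have hagree : ∀ ψ ∈ c, ∀ ψ' ∈ c, ∀ x : (Subgroup.centralizer (P : Set G)), ¬ p ∣ orderOf x →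
      (ψ : (Subgroup.centralizer (P : Set G)) → ℂ) x = (ψ' : (Subgroup.centralizer (P : Set G)) → ℂ) x := fun ψ hψ ψ' hψ' x hx => by
    rw [hreg ψ hψ x hx, hreg ψ' hψ' x hx]
  refine ⟨hagree, fun ψ hψ => ?_⟩
  obtain ⟨ψ₁, hψ₁, h1⟩ := exists_degVal_eq_min (p := p) (⟨ψ, hψ⟩ : c.Nonempty)
  have hdeg : charDegree (ψ : (Subgroup.centralizer (P : Set G)) → ℂ) = charDegree (ψ₁ : (Subgroup.centralizer (P : Set G)) → ℂ) := by
    have h := hagree ψ hψ ψ₁ hψ₁ 1 (by rw [orderOf_one]; exact hM.1.not_dvd_one)
    rw [irr_one_eq, irr_one_eq] at h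
    exact_mod_cast h
  have hd := blockDefect_add_min (p := p) (⟨ψ, hψ⟩ : c.Nonempty)
  have hcard := card_defectGroup hM hnest.1.2.1 (isDefectGroup_of_isMaximal hM hnest)
  set n := (P.subgroupOf (Subgroup.centralizer (P : Set G))).index
  have hn : n ≠ 0 := Subgroup.index_ne_zero_of_finite
  have hv : n.factorization p = (charDegree (ψ : (Subgroup.centralizer (P : Set G)) → ℂ)).factorization p := by
    have h2 : (Nat.card (P.subgroupOf (Subgroup.centralizer (P : Set G)))).factorization p + n.factorization p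
        = (Nat.card (Subgroup.centralizer (P : Set G))).factorization p := by
      rw [← (P.subgroupOf (Subgroup.centralizer (P : Set G))).card_mul_index, Nat.factorization_mul Nat.card_pos.ne' hn,
        Finsupp.add_apply]
    have h3 : (Nat.card (P.subgroupOf (Subgroup.centralizer (P : Set G)))).factorization p = blockDefect p c := by
      rw [hcard, hM.1.factorization_pow, Finsupp.single_eq_same]
    rw [hdeg]
    change degVal p ψ₁ = _ at h1
    show _ = degVal p ψ₁
    omega
  rw [irr_one_eq]
  exact ⟨natCast_div_LR hM (charDegree_pos ψ).ne' (hv ▸ Nat.ordProj_dvd n p),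
    natCast_div_LR hM hn (hv ▸ Nat.ordProj_dvd _ p)⟩

theorem resid_tau_eq {K : Type u} [Group K] [Fintype K] (ψ : IrrCharacter K)
    {θ : KAlg hM K →ₗ[Residue hM] Residue hM}
    (hθ : ∀ a : LAlg hM K, θ (red hM a) = resid hM (val hM ψ a)) {ε : KAlg hM K}
    (he : IsIdempotentElem ε) : resid hM (tau hM ψ 1 ε) = θ ε := by
  obtain ⟨a, -, -, hra, hta⟩ := exists_lift ψ he (commute_one_single ε)
  rw [hta, ← hra, hθ, ← MonoidAlgebra.one_def, one_mul]

/-- A source idempotent. -/
structure IsSource (hM : IsPModular p M) (P : Subgroup G)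
    (c : Set (IrrCharacter (Subgroup.centralizer (P : Set G)))) (i : KAlg hM G) : Prop where
  prim : PrimOn (P : Set G) i
  ne : br P i ≠ 0
  mem : br P i * iota hM _ c = br P i
  unit : ∀ ψ ∈ c, resid hM (tau hM ψ 1 (down hM _ (br P i))) ≠ 0

theorem down_idem (hP : IsPGroup p P) {i : KAlg hM G} (hi : PrimOn (P : Set G) i) :
    IsIdempotentElem (down hM (Subgroup.centralizer (P : Set G)) (br P i)) :=
  isIdempotent_of_up (up_down_br P i) (br_idempotent hP hi.fix hi.idem)

/-- Source idempotents exist. -/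
theorem exists_source (hM : IsPModular p M) (hmax : IsMaximalBrauerPair p M B P c)
    (hab : ∀ x ∈ P, ∀ y ∈ P, x * y = y * x) : ∃ i : KAlg hM G, IsSource hM P c i := by
  have hP : IsPGroup p P := hmax.1.1.1
  have hc : IsPBlock M c := hmax.1.1.2
  have hin : IsInducedBlockIn M (Subgroup.centralizer (P : Set G)) (Subgroup.centralizer (P : Set G)) c c := below_inducedIn hM hmax.1.1 hab le_rfl .refl
  have hD : IsDefectGroup p M c (P.subgroupOf (Subgroup.centralizer (P : Set G))) :=
    isDefectGroup_of_isMaximal hM (maximal_nested hM hmax hab le_rfl hin)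
  obtain ⟨hagree, hratio⟩ := root_block hM hmax hab
  obtain ⟨a, hca, -, hatr⟩ := BlockTrace.exists_trace hM hc hD
  obtain ⟨ψ, hψ⟩ := IsPBlock.nonempty hM hc
  obtain ⟨θ, hsymm, hnilp, hθ⟩ := exists_trFun hM ψ
  have hθa : θ a ≠ 0 := trFun_ne_zero hc (centerD hab) hψ (hratio ψ hψ).1 hθ hatr
  let Θ : KAlg hM G →ₗ[Residue hM] Residue hM :=
    { toFun := fun x => θ (a * down hM (Subgroup.centralizer (P : Set G)) (br P x))
      map_add' := fun x y => by rw [br_add, map_add, mul_add, map_add]
      map_smul' := fun r x => by rw [br_smul, map_smul, mul_smul_comm, map_smul, RingHom.id_apply] }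
  have hΘ : ∀ x, Θ x = θ (a * down hM (Subgroup.centralizer (P : Set G)) (br P x)) := fun _ => rfl
  have h1 : down hM (Subgroup.centralizer (P : Set G)) (1 : KAlg hM G) = 1 := up_injective hM (Subgroup.centralizer (P : Set G)) (by
    rw [map_one (up hM (Subgroup.centralizer (P : Set G)))]
    exact up_down fun g hg => by
      simp [MonoidAlgebra.one_def, Finsupp.single_apply,
        show (1 : G) ≠ g from fun h => hg (h ▸ (Subgroup.centralizer (P : Set G)).one_mem)])
  obtain ⟨j, hj, hΘj⟩ := exists_prim (S := (P : Set G)) Θ 1 IsIdempotentElem.one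
    (fun _ _ => Commute.one_right _) (by rw [hΘ, br_one, h1, mul_one]; exact hθa)
  rw [hΘ] at hΘj
  set ε := down hM (Subgroup.centralizer (P : Set G)) (br P j) with hεdef
  have hε : up hM (Subgroup.centralizer (P : Set G)) ε = br P j := up_down_br P j
  have hεi : IsIdempotentElem ε := down_idem hP hj
  have hne : br P j ≠ 0 := fun h => hΘj (by rw [hεdef, h, map_zero, mul_zero, map_zero])
  -- the block of the primitive idempotent
  have hjS : PrimOn ((P : Set G) ∪ ∅) j := by rwa [Set.union_empty]
  obtain ⟨f, hf, hjf⟩ := hjS.exists_block hP (Set.empty_subset _) hne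
  obtain rfl : f = c := by
    by_contra hfc
    refine hΘj ?_
    have h0 : idem hM c * ε = 0 := up_injective hM (Subgroup.centralizer (P : Set G)) (by
      rw [map_mul, map_zero, hε, up_idem, ← hjf, ← mul_assoc,
        (commute_iota_of_supp c fun g hg => br_apply_notMem P j hg).eq, mul_assoc,
        iota_orth hc hf (Ne.symm hfc), mul_zero])
    rw [← hca, idem_commute hM a, mul_assoc, h0, mul_zero, map_zero]
  -- the scalar by which `a` acts in the corner
  have haC : FixBy (P : Set G) (up hM (Subgroup.centralizer (P : Set G)) a) := fixBy_up a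
  set y := j * up hM (Subgroup.centralizer (P : Set G)) a * j with hy
  have hyfix : FixBy (P : Set G) y := fun s hs =>
    ((hj.fix s hs).mul_right (haC s hs)).mul_right (hj.fix s hs)
  obtain ⟨r, n, hr⟩ := exists_scalar hj hyfix
    (by simp only [hy, ← mul_assoc, hj.idem.eq]) (by simp only [hy, mul_assoc, hj.idem.eq])
  have hbr : br P (y - r • j) = up hM (Subgroup.centralizer (P : Set G)) (ε * a * ε - r • ε) := by
    rw [map_sub, map_smul, map_mul, map_mul, hε, br_sub, br_smul, hy,
      br_mul hP (fun s hs => (hj.fix s hs).mul_right (haC s hs)) hj.fix, br_mul hP hj.fix haC, br_up]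
  have hN : IsNilpotent (ε * a * ε - r • ε) := by
    refine ⟨n + 1, up_injective hM (Subgroup.centralizer (P : Set G)) ?_⟩
    rw [map_pow, ← hbr, map_zero, ← br_pow_succ hP
      (fun s hs => (hyfix s hs).sub_right ((hj.fix s hs).smul_right r)), pow_succ, hr, zero_mul,
      br_zero]
  have hkey : θ (a * ε) = r * θ ε := by
    have e1 : θ (a * ε) = θ (ε * a * ε) := by rw [mul_assoc, hsymm ε, mul_assoc, hεi.eq]
    rw [e1, ← sub_add_cancel (ε * a * ε) (r • ε), map_add, hnilp _ hN, zero_add, map_smul, smul_eq_mul]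
  have hθε : θ ε ≠ 0 := fun h => hΘj (by rw [hkey, h, mul_zero])
  refine ⟨j, hj, hne, hjf, fun ψ' hψ' => ?_⟩
  rw [tau_one_congr (hagree ψ' hψ' ψ hψ) hεi, resid_tau_eq ψ hθ hεi]
  exact hθε

/-- Two such idempotents are equivalent. -/
theorem exists_equiv (hM : IsPModular p M) (hmax : IsMaximalBrauerPair p M B P c)
    (hab : ∀ x ∈ P, ∀ y ∈ P, x * y = y * x) {i i' : KAlg hM G} (hi : IsSource hM P c i)
    (hi' : PrimOn (P : Set G) i') {ψ : IrrCharacter (Subgroup.centralizer (P : Set G))} (hψ : ψ ∈ c)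
    (hu : resid hM (tau hM ψ 1 (down hM _ (br P i'))) ≠ 0) :
    ∃ P₀ Q₀ : KAlg hM G, FixBy (P : Set G) P₀ ∧ FixBy (P : Set G) Q₀ ∧
      P₀ * Q₀ = i ∧ Q₀ * P₀ = i' := by
  have hP : IsPGroup p P := hmax.1.1.1
  obtain ⟨-, hratio⟩ := root_block hM hmax hab
  obtain ⟨θ, -, -, hθ⟩ := exists_trFun hM ψ
  set ε := down hM (Subgroup.centralizer (P : Set G)) (br P i) with hεdef
  set x := down hM (Subgroup.centralizer (P : Set G)) (br P i') with hxdef
  have hε : up hM (Subgroup.centralizer (P : Set G)) ε = br P i := up_down_br P i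
  have hx : up hM (Subgroup.centralizer (P : Set G)) x = br P i' := up_down_br P i'
  have hεc : ε * idem hM c = ε := up_injective hM (Subgroup.centralizer (P : Set G)) (by rw [map_mul, up_idem, hε, hi.mem])
  have hεne : ε ≠ 0 := fun h => hi.ne (by rw [← hε, h, map_zero])
  have hnn := not_nilpotent_corner hmax.1.1.2 (centerD hab) hψ (hratio ψ hψ).2 hθ
    (x := x) (by rw [← resid_tau_eq ψ hθ (down_idem hP hi')]; exact hu) (down_idem hP hi.prim) hεne hεc
  have hgC : ∀ r : (Subgroup.centralizer (P : Set G)), FixBy (P : Set G) (MonoidAlgebra.single (r : G) 1 : KAlg hM G) := fun r => by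
    rw [← up_single hM (Subgroup.centralizer (P : Set G)) r]; exact fixBy_up _
  have hgbr : ∀ r : (Subgroup.centralizer (P : Set G)), br P (MonoidAlgebra.single (r : G) 1 : KAlg hM G)
      = MonoidAlgebra.single (r : G) 1 := fun r => by rw [← up_single hM (Subgroup.centralizer (P : Set G)) r]; exact br_up P _
  let t : (Subgroup.centralizer (P : Set G)) ⧸ (P.subgroupOf (Subgroup.centralizer (P : Set G))) → KAlg hM G := fun r =>
    MonoidAlgebra.single (r.out : G) 1 * i' * MonoidAlgebra.single ((r.out⁻¹ : (Subgroup.centralizer (P : Set G))) : G) 1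
  have htfix : ∀ r, FixBy (P : Set G) (t r) := fun r s hs =>
    ((hgC _ s hs).mul_right (hi'.fix s hs)).mul_right (hgC _ s hs)
  set w := ∑ r : (Subgroup.centralizer (P : Set G)) ⧸ (P.subgroupOf (Subgroup.centralizer (P : Set G))), i * t r * i
  have hwfix : FixBy (P : Set G) w := fun s hs => Commute.sum_right _ _ _ fun r _ =>
    ((hi.prim.fix s hs).mul_right (htfix r s hs)).mul_right (hi.prim.fix s hs)
  have hiw : i * w = w := by
    rw [Finset.mul_sum]
    exact Finset.sum_congr rfl fun r _ => by simp only [← mul_assoc, hi.prim.idem.eq]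
  have hwi : w * i = w := by
    rw [Finset.sum_mul]
    exact Finset.sum_congr rfl fun r _ => by simp only [mul_assoc, hi.prim.idem.eq]
  have hbrw : br P w = up hM (Subgroup.centralizer (P : Set G)) (ε * trSum hM (P.subgroupOf (Subgroup.centralizer (P : Set G))) x * ε) := by
    rw [br_sum, trSum, Finset.mul_sum, Finset.sum_mul, map_sum]
    refine Finset.sum_congr rfl fun r _ => ?_
    rw [map_mul, map_mul, map_mul, map_mul, hε, hx, up_single, up_single,
      br_mul hP (fun s hs => (hi.prim.fix s hs).mul_right (htfix r s hs)) hi.prim.fix,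
      br_mul hP hi.prim.fix (htfix r),
      br_mul hP (fun s hs => (hgC _ s hs).mul_right (hi'.fix s hs)) (hgC _),
      br_mul hP (hgC _) hi'.fix, hgbr, hgbr]
  obtain ⟨v, hv, hiv, hvi, hwv, -⟩ := (hi.prim.nilpotent_or_inv hwfix hiw hwi).resolve_left fun ⟨n, hn⟩ =>
    hnn ⟨n + 1, up_injective hM (Subgroup.centralizer (P : Set G)) (by
      rw [map_pow, ← hbrw, map_zero, ← br_pow_succ hP hwfix, pow_succ, hn, zero_mul, br_zero])⟩
  obtain ⟨r, -, y, hy, hiy, hyi, hfy⟩ := hi.prim.exists_inv_of_sum Finset.univ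
    (fun r => i * t r * i * v)
    (fun r _ => ⟨fun s hs => (((hi.prim.fix s hs).mul_right (htfix r s hs)).mul_right
        (hi.prim.fix s hs)).mul_right (hv s hs),
      by simp only [← mul_assoc, hi.prim.idem.eq], by rw [mul_assoc, hvi]⟩)
    (by rw [← Finset.sum_mul, hwv])
  set a₁ : KAlg hM G := MonoidAlgebra.single (r.out : G) 1
  set a₂ : KAlg hM G := MonoidAlgebra.single ((r.out⁻¹ : (Subgroup.centralizer (P : Set G))) : G) 1
  set P₀ := i * a₁ * i'
  set Q₀ := i' * a₂ * i * v * y
  have hPQ : P₀ * Q₀ = i := by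
    calc P₀ * Q₀ = i * (a₁ * (i' * i') * a₂) * i * v * y := by simp only [P₀, Q₀, mul_assoc]
      _ = i := by rw [hi'.idem.eq]; exact hfy
  refine ⟨P₀, Q₀, fun s hs => ((hi.prim.fix s hs).mul_right (hgC _ s hs)).mul_right (hi'.fix s hs),
    fun s hs => ((((hi'.fix s hs).mul_right (hgC _ s hs)).mul_right (hi.prim.fix s hs)).mul_right
      (hv s hs)).mul_right (hy s hs), hPQ, ?_⟩
  have hiP : i * P₀ = P₀ := by simp only [P₀, ← mul_assoc, hi.prim.idem.eq]
  have hQP2 : IsIdempotentElem (Q₀ * P₀) := by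
    show Q₀ * P₀ * (Q₀ * P₀) = Q₀ * P₀
    calc Q₀ * P₀ * (Q₀ * P₀) = Q₀ * (P₀ * Q₀) * P₀ := by simp only [mul_assoc]
      _ = Q₀ * P₀ := by rw [hPQ, mul_assoc, hiP]
  refine (hi'.prim (Q₀ * P₀) hQP2 (fun s hs =>
    (((((hi'.fix s hs).mul_right (hgC _ s hs)).mul_right (hi.prim.fix s hs)).mul_right
      (hv s hs)).mul_right (hy s hs)).mul_right
      (((hi.prim.fix s hs).mul_right (hgC _ s hs)).mul_right (hi'.fix s hs)))
    (by simp only [Q₀, ← mul_assoc, hi'.idem.eq])
    (by simp only [P₀, mul_assoc, hi'.idem.eq])).resolve_left fun h0 => hi.prim.ne ?_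
  calc i = P₀ * Q₀ * (P₀ * Q₀) := by rw [hPQ, hi.prim.idem.eq]
    _ = P₀ * (Q₀ * P₀) * Q₀ := by simp only [mul_assoc]
    _ = 0 := by rw [h0, mul_zero, zero_mul]

/-- A source idempotent is equivalent to its conjugates under the stabilizer of the pair. -/
theorem exists_equiv_cj (hM : IsPModular p M) (hmax : IsMaximalBrauerPair p M B P c)
    (hab : ∀ x ∈ P, ∀ y ∈ P, x * y = y * x) {i : KAlg hM G} (hi : IsSource hM P c i) {t : G}
    (ht : t ∈ pairStab P c) :
    ∃ P₀ Q₀ : KAlg hM G, FixBy (P : Set G) P₀ ∧ FixBy (P : Set G) Q₀ ∧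
      P₀ * Q₀ = i ∧ Q₀ * P₀ = cj t i := by
  have hP : IsPGroup p P := hmax.1.1.1
  have htN : t ∈ Subgroup.normalizer (P : Set G) := ht.1
  have htC : t ∈ Subgroup.normalizer ((Subgroup.centralizer (P : Set G)) : Set G) := normalizer_le_normalizer_centralizer P htN
  have hinv : ∀ z : KAlg hM G, cj t⁻¹ (cj t z) = z := fun z => by
    rw [← cj_mul, inv_mul_cancel, cj_one]
  have hinv' : ∀ z : KAlg hM G, cj t (cj t⁻¹ z) = z := fun z => by
    rw [← cj_mul, mul_inv_cancel, cj_one]
  have hfix : ∀ (g : G) (_ : g ∈ Subgroup.normalizer (P : Set G)) (z : KAlg hM G),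
      FixBy (P : Set G) z → FixBy (P : Set G) (cj g z) := fun g hg z hz s hs => by
    have h1 := (hz (g⁻¹ * s * g) (by
      have := (Subgroup.mem_normalizer_iff.1 (Subgroup.inv_mem _ hg) s).1 hs
      simpa using this)).map (cj (R := Residue hM) g)
    rw [cj_single] at h1
    simpa [mul_assoc] using h1
  have hi' : PrimOn (P : Set G) (cj t i) :=
    { idem := hi.prim.idem.map (cj t)
      fix := hfix t htN i hi.prim.fix
      ne := fun h => hi.prim.ne (by rw [← hinv i, h, map_zero])
      prim := fun e he hef h1 h2 => by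
        rcases hi.prim.prim (cj t⁻¹ e) (he.map (cj t⁻¹)) (hfix _ (Subgroup.inv_mem _ htN) e hef)
          (by conv_lhs => rw [← hinv i, ← map_mul, h1])
          (by conv_lhs => rw [← hinv i, ← map_mul, h2]) with h | h
        · left; rw [← hinv' e, h, map_zero]
        · right; rw [← hinv' e, h] }
  obtain ⟨ψ, hψ⟩ := IsPBlock.nonempty hM hmax.1.1.2
  refine exists_equiv hM hmax hab hi hi' hψ ?_
  have hiff : ∀ x, t * x * t⁻¹ ∈ (Subgroup.centralizer (P : Set G)) ↔ x ∈ (Subgroup.centralizer (P : Set G)) := mem_iff_of_normalizer htC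
  let φ : (Subgroup.centralizer (P : Set G)) ≃* (Subgroup.centralizer (P : Set G)) := conjIso t hiff
  set ε := down hM (Subgroup.centralizer (P : Set G)) (br P i)
  have hupcj : ∀ z : KAlg hM (Subgroup.centralizer (P : Set G)), up hM (Subgroup.centralizer (P : Set G)) (mapK hM φ.toMonoidHom z) = cj t (up hM (Subgroup.centralizer (P : Set G)) z) := fun z => by
    rw [eq_sum_single z, map_sum, map_sum, map_sum, map_sum]
    refine Finset.sum_congr rfl fun k _ => ?_
    rw [mapK_single, up_single, up_single, cj_single]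
    rfl
  have hbrcj : br P (cj t i) = cj t (br P i) := by
    refine ext_coeff fun g => ?_
    rw [coeff_br, coeff_cj, coeff_cj, coeff_br]
    refine if_congr ?_ rfl rfl
    conv_lhs => rw [show g = t * (t⁻¹ * g * t) * t⁻¹ by group]
    exact hiff _
  have hε' : down hM (Subgroup.centralizer (P : Set G)) (br P (cj t i)) = mapK hM φ.toMonoidHom ε := up_injective hM (Subgroup.centralizer (P : Set G)) (by
    rw [hupcj, up_down_br, up_down_br, hbrcj])
  have hψ' : irrEquiv φ ψ ∈ c := by
    have he : irrEquiv φ '' c = c := bc_injective (Subgroup.centralizer (P : Set G)) (funext fun g => by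
      dsimp only
      rw [bc_image_conjIso]; exact ht.2 g)
    exact he ▸ ⟨ψ, hψ, rfl⟩
  have h1 := tau_irrEquiv φ ψ (g := (1 : (Subgroup.centralizer (P : Set G)))) (down_idem hP hi.prim) (commute_one_single _)
  rw [map_one] at h1
  rw [hε', ← h1]
  exact hi.unit _ hψ'

end CfsgLib.Blocks.FreeAbelianCounts
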