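import Cfsg.Agent.Lib.Blocks.FreeAbelianCounts.Regular
import Cfsg.Agent.Lib.Blocks.RankOneFrame

/-!
# Residual traces and relative traces from a central subgroup
-/

set_option autoImplicit false
set_option linter.unusedSectionVars false
set_option maxHeartbeats 800000

namespace CfsgLib.Blocks.FreeAbelianCounts

open Cfsg CfsgLib.Blocks CfsgLib.Blocks.ResidueAlgebra CfsgLib.Blocks.TwoCharacters
  CfsgLib.BrauerPairs CfsgLib.BrouePuig
open scoped Classical

universe u

variable {p : ℕ} {M : Ideal AlgInt} {hM : IsPModular p M} {K : Type u} [Group K] [Fintype K]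

theorem val_LR (ψ : IrrCharacter K) (a : LAlg hM K) : MemLocalRing M (val hM ψ a) :=
  LR.sum hM fun g _ => LR.mul hM (a.coeff g).2 (LR.of_isIntegral hM (irr_isIntegral ψ g))

/-- The residual trace form of a character: it is symmetric and kills nilpotent elements. -/
theorem exists_trFun (hM : IsPModular p M) (ψ : IrrCharacter K) :
    ∃ θ : KAlg hM K →ₗ[Residue hM] Residue hM, (∀ x y, θ (x * y) = θ (y * x)) ∧
      (∀ N, IsNilpotent N → θ N = 0) ∧
      ∀ a : LAlg hM K, θ (red hM a) = resid hM (val hM ψ a) := by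
  obtain ⟨n, S, hS, hψS⟩ := RankOneFrame.exists_lattice_rep hM ψ
  let S₀ : K →* Matrix (Fin n) (Fin n) (Residue hM) :=
    { toFun := fun g => (S g).map (resid hM)
      map_one' := by
        ext i j
        rw [map_one, Matrix.map_apply, Matrix.one_apply, Matrix.one_apply]
        split <;> [exact resid_one hM; exact resid_zero hM]
      map_mul' := fun g h => by
        ext i j
        rw [map_mul, Matrix.map_apply, Matrix.mul_apply,
          resid_sum hM _ fun l _ => LR.mul hM (hS g i l) (hS h l j), Matrix.mul_apply]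
        exact Finset.sum_congr rfl fun l _ => resid_mul hM (hS g i l) (hS h l j) }
  let Φ : KAlg hM K →ₐ[Residue hM] Matrix (Fin n) (Fin n) (Residue hM) :=
    MonoidAlgebra.lift (Residue hM) (Matrix (Fin n) (Fin n) (Residue hM)) K S₀
  refine ⟨(Matrix.traceLinearMap (Fin n) (Residue hM) (Residue hM)).comp Φ.toLinearMap,
    fun x y => ?_, fun N hN => ?_, fun a => ?_⟩
  · show Matrix.trace (Φ (x * y)) = Matrix.trace (Φ (y * x))
    rw [map_mul, map_mul, Matrix.trace_mul_comm]
  · show Matrix.trace (Φ N) = 0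
    exact (Matrix.isNilpotent_trace_of_isNilpotent (hN.map Φ)).eq_zero
  · show Matrix.trace (Φ (red hM a)) = _
    have hterm : ∀ g, MemLocalRing M (((a.coeff g : localSubring hM) : ℂ) * (ψ : K → ℂ) g) := fun g =>
      LR.mul hM (a.coeff g).2 (LR.of_isIntegral hM (irr_isIntegral ψ g))
    rw [eq_sum_single (red hM a), map_sum, Matrix.trace_sum, val, resid_sum hM _ fun g _ => hterm g]
    refine Finset.sum_congr rfl fun g _ => ?_
    rw [show Φ (MonoidAlgebra.single g ((red hM a).coeff g)) = (red hM a).coeff g • S₀ g from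
        MonoidAlgebra.lift_single .., Matrix.trace_smul, smul_eq_mul, coeff_red_resid,
      resid_mul hM (a.coeff g).2 (LR.of_isIntegral hM (irr_isIntegral ψ g))]
    congr 1
    show ∑ i, resid hM (S g i i) = resid hM ((ψ : K → ℂ) g)
    rw [hψS, Matrix.trace]
    simp only [Matrix.diag_apply]
    rw [resid_sum hM _ fun i _ => hS g _ _]

/-- The relative trace from a subgroup. -/
noncomputable def trSum (hM : IsPModular p M) (D : Subgroup K) (x : KAlg hM K) : KAlg hM K :=
  ∑ r : K ⧸ D, MonoidAlgebra.single r.out 1 * x * MonoidAlgebra.single r.out⁻¹ 1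

/-- A relative trace from a central subgroup as a class function. -/
theorem exists_classFn {D : Subgroup K} (hD : D ≤ Subgroup.center K) (x : KAlg hM K) :
    ∃ F : K → ℂ, IsClassFunction K F ∧ (∀ g, MemLocalRing M (F g)) ∧
      toResAlg hM F = trSum hM D x ∧
      ∀ ψ : IrrCharacter K, omega (ψ : K → ℂ) F
        = (D.index : ℂ) / (ψ : K → ℂ) 1 * val hM ψ (liftK hM x) := by
  let f : K → ℂ := fun g => sec hM (x.coeff g)
  have hrep : ∀ (a : K) (g : K),
      f ((((a : K) : K ⧸ D).out)⁻¹ * g * (((a : K) : K ⧸ D).out)) = f (a⁻¹ * g * a) := by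
    intro a g
    obtain ⟨d, hd⟩ := QuotientGroup.mk_out_eq_mul D a
    have hc := Subgroup.mem_center_iff.1 (hD d.2)
    rw [hd, show (a * (d : K))⁻¹ * g * (a * (d : K)) = a⁻¹ * g * a by
      rw [mul_inv_rev, mul_assoc, mul_assoc, ← mul_assoc g, hc (g * a), ← mul_assoc a⁻¹ (d : K),
        hc a⁻¹, mul_assoc (d : K), inv_mul_cancel_left, mul_assoc]]
  refine ⟨fun g => ∑ r : K ⧸ D, f (r.out⁻¹ * g * r.out), fun g h => ?_,
    fun g => LR.sum hM fun r _ => sec_LR hM _, ext_coeff fun g => ?_, fun ψ => ?_⟩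
  · refine Fintype.sum_equiv (MulAction.toPerm h⁻¹) _ _ fun r => ?_
    obtain ⟨a, rfl⟩ := QuotientGroup.mk_surjective r
    rw [MulAction.toPerm_apply, MulAction.Quotient.smul_coe, hrep, hrep]
    congr 1
    simp [mul_assoc]
  · rw [coeff_toResAlg, resid_sum hM _ fun r _ => sec_LR hM _, trSum, MonoidAlgebra.coeff_sum,
      Finsupp.finsetSum_apply]
    refine Finset.sum_congr rfl fun r _ => ?_
    rw [resid_sec, MonoidAlgebra.coeff_mul_single_apply, MonoidAlgebra.coeff_single_mul_apply,
      inv_inv, one_mul, mul_one, mul_assoc]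
  · rw [omega, val]
    have hone : ∀ r : K ⧸ D, ∑ g, f (r.out⁻¹ * g * r.out) * (ψ : K → ℂ) g
        = ∑ g, f g * (ψ : K → ℂ) g := fun r => by
      refine Fintype.sum_equiv (MulAut.conj r.out⁻¹).toEquiv _ _ fun g => ?_
      show _ = f (r.out⁻¹ * g * r.out⁻¹⁻¹) * (ψ : K → ℂ) (r.out⁻¹ * g * r.out⁻¹⁻¹)
      rw [irr_conj_apply, inv_inv]
    simp only [Finset.sum_mul]
    rw [Finset.sum_comm, Finset.sum_congr rfl fun r _ => hone r, Finset.sum_const, nsmul_eq_mul,
      Finset.card_univ, Fintype.card_eq_nat_card, ← Subgroup.index_eq_card]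
    simp only [coeff_liftK, f]
    ring

variable {b : Set (IrrCharacter K)}

/-- An element whose trace is the block idempotent has nonzero residual trace. -/
theorem trFun_ne_zero (hb : IsPBlock M b) {D : Subgroup K} (hD : D ≤ Subgroup.center K)
    {ψ : IrrCharacter K} (hψ : ψ ∈ b) (hr : MemLocalRing M ((D.index : ℂ) / (ψ : K → ℂ) 1))
    {θ : KAlg hM K →ₗ[Residue hM] Residue hM}
    (hθ : ∀ a : LAlg hM K, θ (red hM a) = resid hM (val hM ψ a)) {a : KAlg hM K}
    (ha : trSum hM D a = idem hM b) : θ a ≠ 0 := by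
  obtain ⟨F, hF, hFR, hFa, hFψ⟩ := exists_classFn hD a
  intro h0
  rw [← red_liftK hM a, hθ, resid_eq_zero_iff hM (val_LR ψ _)] at h0
  have hw : MemLocalIdeal M (omega (ψ : K → ℂ) F) := by
    rw [hFψ]; exact LI.mul_left hM hr h0
  have hdiff : MemLocalIdeal M (omega (ψ : K → ℂ) fun g => F g - blockCoeff b g) := by
    refine omega_LI hM ψ (fun g h => ?_) fun g => ?_
    · show F _ - blockCoeff b _ = F g - blockCoeff b g
      rw [hF g h]
      exact congrArg (F g - ·) (blockCoeff_isClassFunction b g h)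
    · rw [← resid_eq_zero_iff hM (LR.sub hM (hFR g) (blockCoeff_LR hM hb g)), sub_eq_add_neg,
        resid_add hM (hFR g) (LR.neg (blockCoeff_LR hM hb g))]
      have e1 : resid hM (F g) = resid hM (blockCoeff b g) := by
        rw [← coeff_idem hM g, ← ha, ← hFa, coeff_toResAlg]
      rw [e1, ← resid_add hM (blockCoeff_LR hM hb g) (LR.neg (blockCoeff_LR hM hb g)),
        add_neg_cancel, resid_zero]
  have hsplit : omega (ψ : K → ℂ) (fun g => F g - blockCoeff b g)
      = omega (ψ : K → ℂ) F - 1 := by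
    have h1 : omega (ψ : K → ℂ) (fun g => blockCoeff b g) = 1 := by
      rw [omega_blockCoeff, blockInd_of_mem hψ]
    rw [← h1, omega, omega, omega, ← sub_div, ← Finset.sum_sub_distrib]
    exact congrArg (· / _) (Finset.sum_congr rfl fun g _ => sub_mul _ _ _)
  rw [hsplit] at hdiff
  have := LI.add hM hw (LI.neg hdiff)
  rw [neg_sub, add_sub_cancel] at this
  exact LI.not_one hM this

/-- The trace of an element with nonzero residual trace is invertible in the block. -/
theorem not_nilpotent_corner (hb : IsPBlock M b) {D : Subgroup K} (hD : D ≤ Subgroup.center K)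
    {ψ : IrrCharacter K} (hψ : ψ ∈ b) (hr' : MemLocalRing M ((ψ : K → ℂ) 1 / (D.index : ℂ)))
    {θ : KAlg hM K →ₗ[Residue hM] Residue hM}
    (hθ : ∀ a : LAlg hM K, θ (red hM a) = resid hM (val hM ψ a)) {x : KAlg hM K} (hx : θ x ≠ 0)
    {ε : KAlg hM K} (he : IsIdempotentElem ε) (hne : ε ≠ 0) (hεb : ε * idem hM b = ε) :
    ¬ IsNilpotent (ε * trSum hM D x * ε) := by
  obtain ⟨F, hF, hFR, hFx, hFψ⟩ := exists_classFn hD x
  set w := omega (ψ : K → ℂ) F with hwdef
  have hwR : MemLocalRing M w := omega_LR hM ψ hF hFR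
  set c := resid hM w with hcdef
  have hc0 : c ≠ 0 := by
    intro h
    rw [hcdef, resid_eq_zero_iff hM hwR, hwdef, hFψ] at h
    refine hx ?_
    rw [← red_liftK hM x, hθ, resid_eq_zero_iff hM (val_LR ψ _)]
    convert LI.mul_left hM hr' h using 1
    have h1 := irr_one_ne_zero ψ
    have h2 : (D.index : ℂ) ≠ 0 := Nat.cast_ne_zero.2 D.index_ne_zero_of_finite
    field_simp
  let F' : IrrCharacter K → ℂ := fun φ => blockInd b φ * omega (φ : K → ℂ) F - w * blockInd b φ
  have hFI : ∀ φ, MemLocalIdeal M (F' φ) := fun φ => by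
    show MemLocalIdeal M (_ - _)
    by_cases hφ : φ ∈ b
    · rw [blockInd_of_mem hφ, one_mul, mul_one, hwdef]
      exact omega_congr hM (IsPBlock.sameBlock hM hb hφ hψ) hF hFR
    · rw [blockInd_of_notMem hφ, zero_mul, mul_zero, sub_zero]
      exact LI.zero hM
  have hl1 : IsLocalOn M (⊤ : Subgroup K) (blockInd b) := (IsPBlock.isLocalOn hM hb).top_of
  have hl2 : IsLocalOn M (⊤ : Subgroup K) (fun φ : IrrCharacter K => omega (φ : K → ℂ) F) :=
    isLocalOn_omega hM hF hFR fun g hg => absurd (Subgroup.mem_top g) hg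
  have hFl : IsLocalOn M (⊤ : Subgroup K) F' :=
    IsLocalOn.sub hM (IsLocalOn.mul hM hl1 hl2) (IsLocalOn.const_mul hM hwR hl1)
  have hred : redChar hM F' + c • idem hM b = idem hM b * trSum hM D x := by
    have h1 : redChar hM (fun φ => blockInd b φ * omega (φ : K → ℂ) F) = idem hM b * trSum hM D x := by
      rw [redChar_mul hl1 hl2, redChar_omega hF, BlockTrace.redChar_blockInd, hFx]
    rw [← h1, ← BlockTrace.redChar_blockInd hM b, redChar, redChar, redChar]
    refine ext_coeff fun g => ?_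
    rw [MonoidAlgebra.coeff_add, MonoidAlgebra.coeff_smul, Finsupp.add_apply, Finsupp.smul_apply,
      coeff_toResAlg, coeff_toResAlg, coeff_toResAlg, smul_eq_mul, hcdef, ← resid_mul hM hwR (hl1 g).1,
      ← resid_add hM (hFl g).1 (LR.mul hM hwR (hl1 g).1)]
    congr 1
    simp only [F', fourierInv, sub_mul, Finset.sum_sub_distrib, mul_sub, Finset.mul_sum]
    rw [sub_add_eq_add_sub, sub_eq_iff_eq_add]
    congr 1
    exact Finset.sum_congr rfl fun φ _ => by ring
  set N := redChar hM F'
  have hN : IsNilpotent N := BlockTrace.isNilpotent_redChar hM hFl hFI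
  have hNc : ∀ z, Commute N z := fun z => by
    rw [show N = toResAlg hM (fourierInv F') from rfl]
    exact commute_toResAlg_of_classFunction (fourierInv_isClassFunction F') z
  set Z := trSum hM D x
  have hZc : ∀ z, Commute Z z := fun z => hFx ▸ commute_toResAlg_of_classFunction hF z
  intro hnil
  have h2 : ε * N + c • ε = ε * Z * ε := by
    calc ε * N + c • ε = ε * (N + c • idem hM b) := by rw [mul_add, mul_smul_comm, hεb]
      _ = ε * Z := by rw [hred, ← mul_assoc, hεb]
      _ = ε * Z * ε := by rw [mul_assoc, (hZc ε).eq, ← mul_assoc, he.eq]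
  have hcomm : Commute (ε * Z * ε) (ε * N) := by
    have e : ε * Z * ε = ε * Z := by rw [mul_assoc, (hZc ε).eq, ← mul_assoc, he.eq]
    rw [e]
    exact ((Commute.refl ε).mul_left (hZc ε)).mul_right ((hNc _).symm)
  have h3 : IsNilpotent (c • ε) := by
    rw [show c • ε = ε * Z * ε - ε * N from eq_sub_of_add_eq' h2]
    exact hcomm.isNilpotent_sub hnil ((hNc ε).symm.isNilpotent_mul_left hN)
  have h4 : IsNilpotent ε := by
    have := h3.smul c⁻¹
    rwa [smul_smul, inv_mul_cancel₀ hc0, one_smul] at this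
  exact hne (eq_zero_of_isNilpotent_idem h4 he)

end CfsgLib.Blocks.FreeAbelianCounts
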